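import Mathlib.RingTheory.Flat.EquationalCriterion
import Mathlib.RingTheory.Flat.Tensor
import Mathlib.RingTheory.Localization.BaseChange
import Mathlib.RingTheory.Polynomial.Basic
import Mathlib.Algebra.MvPolynomial.Equiv
import Mathlib.RingTheory.FiniteType
import Mathlib.LinearAlgebra.LinearIndependent.Lemmas

/-!
Generic flatness over Noetherian domains: a finite module `M` over a finite type algebra over a
domain `D` becomes flat over `D` after inverting a nonzero element of `D`.
-/

universe u

open TensorProduct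

namespace Groth.Agent.H13Flat

variable {D : Type u} [CommRing D]

/-- The kernels of `I ⊗ M → M` are killed by powers of `f`. -/
def KillsKer (f : D) (M : Type u) [AddCommGroup M] [Module D M] : Prop :=
  ∀ (I : Ideal D) (z : I ⊗[D] M), I.subtype.rTensor M z = 0 → ∃ k : ℕ, f ^ k • z = 0

namespace KillsKer

variable {f g : D} {A B C M : Type u} [AddCommGroup A] [AddCommGroup B] [AddCommGroup C]
  [AddCommGroup M] [Module D A] [Module D B] [Module D C] [Module D M]

theorem mul_right (h : KillsKer f M) : KillsKer (f * g) M := fun I z hz => by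
  obtain ⟨k, hk⟩ := h I z hz
  exact ⟨k, by rw [mul_pow, mul_comm, mul_smul, hk, smul_zero]⟩

theorem mul_left (h : KillsKer f M) : KillsKer (g * f) M := mul_comm f g ▸ h.mul_right

theorem of_dvd (h : KillsKer f M) (hd : f ∣ g) : KillsKer g M := by
  obtain ⟨c, rfl⟩ := hd
  exact h.mul_right

theorem of_flat [Module.Flat D M] : KillsKer f M := by
  intro I z hz
  refine ⟨0, ?_⟩
  rw [pow_zero, one_smul]
  exact Module.Flat.rTensor_preserves_injective_linearMap
    I.subtype Subtype.val_injective (hz.trans (map_zero _).symm)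

theorem of_smul_eq_zero (h : ∀ m : M, f • m = 0) : KillsKer f M := fun I z hz => ⟨1, by
  clear hz
  rw [pow_one]
  induction z with
  | zero => exact smul_zero _
  | tmul i m => rw [← TensorProduct.tmul_smul, h, tmul_zero]
  | add a b ha hb => rw [smul_add, ha, hb, add_zero]⟩

theorem of_exact {u : A →ₗ[D] B} {v : B →ₗ[D] C} (hu : Function.Injective u)
    (hv : Function.Surjective v) (hex : Function.Exact u v) (hA : KillsKer f A) (hC : KillsKer f C) :
    KillsKer f B := by
  intro I z hz
  obtain ⟨k, hk⟩ := hC I (v.lTensor I z) (by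
    rw [← LinearMap.comp_apply, LinearMap.rTensor_comp_lTensor, ← LinearMap.lTensor_comp_rTensor,
      LinearMap.comp_apply, hz, map_zero])
  obtain ⟨y, hy⟩ := (lTensor_exact I hex hv (f ^ k • z)).1 (by rw [map_smul, hk])
  obtain ⟨l, hl⟩ := hA I y (by
    refine Module.Flat.lTensor_preserves_injective_linearMap (M := D) u hu ?_
    rw [← LinearMap.comp_apply, LinearMap.lTensor_comp_rTensor, ← LinearMap.rTensor_comp_lTensor,
      LinearMap.comp_apply, hy, map_smul, hz, smul_zero, map_zero])
  exact ⟨l + k, by rw [pow_add, mul_smul, ← hy, ← map_smul, hl, map_zero]⟩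

theorem of_linearEquiv (e : A ≃ₗ[D] B) (hA : KillsKer f A) : KillsKer f B := by
  intro I z hz
  obtain ⟨k, hk⟩ := hA I (e.symm.toLinearMap.lTensor I z) (by
    rw [← LinearMap.comp_apply, LinearMap.rTensor_comp_lTensor, ← LinearMap.lTensor_comp_rTensor,
      LinearMap.comp_apply, hz, map_zero])
  refine ⟨k, ?_⟩
  rw [← map_smul] at hk
  exact (LinearEquiv.lTensor I e.symm).injective (hk.trans (map_zero _).symm)

theorem of_chain (W : ℕ → Submodule D M) (hmono : Monotone W) (hcov : ∀ m, ∃ j, m ∈ W j)
    (h : ∀ j, KillsKer f (W j)) : KillsKer f M := by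
  intro I z hz
  have hlift : ∀ z : I ⊗[D] M, ∃ (j : ℕ) (y : I ⊗[D] W j), (W j).subtype.lTensor I y = z := by
    intro z
    induction z with
    | zero => exact ⟨0, 0, map_zero _⟩
    | tmul i m =>
      obtain ⟨j, hj⟩ := hcov m
      exact ⟨j, i ⊗ₜ ⟨m, hj⟩, rfl⟩
    | add a b ha hb =>
      obtain ⟨j, y, rfl⟩ := ha
      obtain ⟨l, w, rfl⟩ := hb
      refine ⟨max j l, (Submodule.inclusion (hmono (le_max_left j l))).lTensor I y +
        (Submodule.inclusion (hmono (le_max_right j l))).lTensor I w, ?_⟩
      simp only [map_add, ← LinearMap.lTensor_comp_apply, Submodule.subtype_comp_inclusion]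
  obtain ⟨j, y, rfl⟩ := hlift z
  obtain ⟨k, hk⟩ := h j I y (by
    refine Module.Flat.lTensor_preserves_injective_linearMap (M := D) (W j).subtype
      Subtype.val_injective ?_
    rw [← LinearMap.comp_apply, LinearMap.lTensor_comp_rTensor, ← LinearMap.rTensor_comp_lTensor,
      LinearMap.comp_apply, hz, map_zero])
  exact ⟨k, by rw [← map_smul, hk, map_zero]⟩

theorem flat_localizedModule (h : KillsKer f M) :
    Module.Flat D (LocalizedModule (Submonoid.powers f) M) := by
  rw [Module.Flat.iff_lTensor_injective']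
  intro I
  rw [injective_iff_map_eq_zero]
  intro z hz
  let g := LocalizedModule.mkLinearMap (Submonoid.powers f) M
  have : IsLocalizedModule (Submonoid.powers f) (g.rTensor I) :=
    inferInstanceAs (IsLocalizedModule (Submonoid.powers f) (AlgebraTensorModule.rTensor D I g))
  obtain ⟨⟨z₀, s⟩, hs⟩ := IsLocalizedModule.surj (Submonoid.powers f) (g.rTensor I) z
  have h0 : g (TensorProduct.rid D M (I.subtype.lTensor M z₀)) = 0 := by
    have e : ∀ w : M ⊗[D] I, g (TensorProduct.rid D M (I.subtype.lTensor M w)) =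
        TensorProduct.rid D _ (I.subtype.lTensor _ (g.rTensor I w)) := fun w => by
      induction w with
      | zero => simp
      | tmul m i => simp
      | add a b ha hb => simp only [map_add, ha, hb]
    rw [e, ← hs, Submonoid.smul_def, map_smul, map_smul, hz, map_zero, smul_zero]
  obtain ⟨t, ht⟩ := (IsLocalizedModule.eq_zero_iff (Submonoid.powers f) g).1 h0
  obtain ⟨l, hl⟩ := t.2
  obtain ⟨k, hk⟩ := h I (f ^ l • TensorProduct.comm D M I z₀) (by
    have e : ∀ w : M ⊗[D] I, I.subtype.rTensor M (TensorProduct.comm D M I w) =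
        (TensorProduct.lid D M).symm (TensorProduct.rid D M (I.subtype.lTensor M w)) := fun w => by
      induction w with
      | zero => simp
      | tmul m i => simp [TensorProduct.smul_tmul']
      | add a b ha hb => simp only [map_add, ha, hb]
    rw [Submonoid.smul_def, ← hl] at ht
    rw [map_smul, e, ← map_smul, ht, map_zero])
  rw [← map_smul, ← map_smul, LinearEquiv.map_eq_zero_iff] at hk
  have hu : ∀ x : Submonoid.powers f, Function.Bijective
      (algebraMap D (Module.End D (LocalizedModule (Submonoid.powers f) M ⊗[D] I)) x) := fun x =>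
    (Module.End.isUnit_iff _).1 (IsLocalizedModule.map_units (g.rTensor I) x)
  apply (hu (⟨f ^ k, k, rfl⟩ * ⟨f ^ l, l, rfl⟩ * s)).1
  simp only [Module.algebraMap_end_apply, Submonoid.coe_mul, mul_smul, smul_zero]
  rw [Submonoid.smul_def] at hs
  rw [hs, ← map_smul, ← map_smul, hk, map_zero]

end KillsKer

/-- Generic flatness holds for `B`. -/
def GenericFlat (D B : Type u) [CommRing D] [CommRing B] [Algebra D B] : Prop :=
  ∀ (M : Type u) [AddCommGroup M] [Module D M] [Module B M] [IsScalarTower D B M] [Module.Finite B M],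
    ∃ f : D, f ≠ 0 ∧ KillsKer f M

theorem exists_killsKer_of_finite [IsDomain D] (M : Type u) [AddCommGroup M] [Module D M]
    [Module.Finite D M] : ∃ f : D, f ≠ 0 ∧ KillsKer f M := by
  obtain ⟨n, s, hs⟩ := Module.Finite.exists_fin (R := D) (M := M)
  obtain ⟨t, ht, hmax⟩ := exists_maximal_linearIndepOn D s
  choose! a ha using hmax
  classical
  let c : Fin n → D := fun i => if i ∈ t then 1 else a i
  have hc : ∀ i, c i ≠ 0 := fun i => by
    simp only [c]
    split_ifs with h
    · exact one_ne_zero
    · exact (ha i h).1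
  let φ : (t →₀ D) →ₗ[D] M := Finsupp.linearCombination D fun i : t => s i
  have hmem : ∀ i, c i • s i ∈ LinearMap.range φ := fun i => by
    rw [Finsupp.range_linearCombination,
      show Set.range (fun i : t => s i) = s '' t by rw [Set.range_comp', Subtype.range_coe]]
    simp only [c]
    split_ifs with h
    · rw [one_smul]; exact Submodule.subset_span ⟨i, h, rfl⟩
    · exact (ha i h).2
  refine ⟨∏ i, c i, Finset.prod_ne_zero_iff.2 fun i _ => hc i,
    KillsKer.of_exact (u := φ) (v := (LinearMap.range φ).mkQ) ht (Submodule.mkQ_surjective _)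
      (LinearMap.exact_map_mkQ_range φ) KillsKer.of_flat (KillsKer.of_smul_eq_zero fun q => ?_)⟩
  obtain ⟨m, rfl⟩ := Submodule.mkQ_surjective _ q
  rw [← map_smul]
  refine (Submodule.Quotient.mk_eq_zero _).2 ?_
  have hm : m ∈ Submodule.span D (Set.range s) := hs ▸ trivial
  induction hm using Submodule.span_induction with
  | mem x hx =>
    obtain ⟨i, rfl⟩ := hx
    rw [← Finset.prod_erase_mul _ _ (Finset.mem_univ i), mul_smul]
    exact Submodule.smul_mem _ _ (hmem i)
  | zero => simp
  | add x y _ _ hx hy => rw [smul_add]; exact add_mem hx hy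
  | smul b x _ hx => rw [smul_comm]; exact Submodule.smul_mem _ _ hx

theorem GenericFlat.of_surjective {B B' : Type u} [CommRing B] [CommRing B'] [Algebra D B]
    [Algebra D B'] (φ : B →ₐ[D] B') (hφ : Function.Surjective φ) (h : GenericFlat D B) :
    GenericFlat D B' := by
  intro M _ _ _ _ _
  let : Algebra B B' := φ.toRingHom.toAlgebra
  let : Module B M := Module.compHom M φ.toRingHom
  have : IsScalarTower B B' M := .of_algebraMap_smul fun _ _ => rfl
  have : IsScalarTower D B M := .of_algebraMap_smul fun d m => by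
    change φ (algebraMap D B d) • m = d • m
    rw [AlgHom.commutes, algebraMap_smul]
  have : Module.Finite B B' := Module.Finite.of_surjective (Algebra.linearMap B B') hφ
  have : Module.Finite B M := Module.Finite.trans B' M
  exact h M

theorem GenericFlat.polynomial [IsDomain D] {B : Type u} [CommRing B] [Algebra D B]
    [IsNoetherianRing B] (h : GenericFlat D B) : GenericFlat D (Polynomial B) := by
  intro M _ _ _ _ _
  let : Module B M := Module.compHom M (Polynomial.C : B →+* Polynomial B)
  have : IsScalarTower B (Polynomial B) M := .of_algebraMap_smul fun _ _ => rfl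
  have : IsScalarTower D B M := .of_algebraMap_smul fun d m => by
    change Polynomial.C (algebraMap D B d) • m = d • m
    rw [← Polynomial.algebraMap_apply, algebraMap_smul]
  obtain ⟨s, hs⟩ := (Module.finite_def.1 ‹Module.Finite (Polynomial B) M› : (⊤ : Submodule (Polynomial B) M).FG)
  let T : M →ₗ[B] M := (LinearMap.lsmul (Polynomial B) M Polynomial.X).restrictScalars B
  let W₀ : Submodule B M := Submodule.span B (s : Set M)
  have : Module.Finite B W₀ := Module.Finite.span_of_finite B s.finite_toSet
  let W : ℕ → Submodule B M := fun j => (fun V : Submodule B M => V ⊔ V.map T)^[j] W₀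
  have hW : ∀ j, W (j + 1) = W j ⊔ (W j).map T := fun j => Function.iterate_succ_apply' _ j W₀
  have hW' : ∀ j, W (j + 1) = W j ⊔ W₀.map (T ^ (j + 1)) := by
    intro j
    induction j with
    | zero => simp [hW, W]
    | succ j ih =>
      rw [hW (j + 1)]
      refine le_antisymm (sup_le le_sup_left ?_) (sup_le le_sup_left ?_)
      · conv_lhs => rw [ih, Submodule.map_sup, ← Submodule.map_comp, ← Module.End.mul_eq_comp,
          ← pow_succ']
        exact sup_le (le_trans (by rw [hW]; exact le_sup_right) le_sup_left) le_sup_right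
      · refine le_trans ?_ le_sup_right
        rw [pow_succ' T (j + 1), Module.End.mul_eq_comp, Submodule.map_comp]
        exact Submodule.map_mono (ih ▸ le_sup_right)
  have hmono : Monotone W := monotone_nat_of_le_succ fun j => (hW j).symm ▸ le_sup_left
  have hT : ∀ j, ∀ x ∈ W j, T x ∈ W (j + 1) := fun j x hx =>
    hW j ▸ Submodule.mem_sup_right (Submodule.mem_map_of_mem hx)
  have hcov : ∀ m, ∃ j, m ∈ W j := by
    have hXk : ∀ (k j : ℕ) (x : M), x ∈ W j → (Polynomial.X : Polynomial B) ^ k • x ∈ W (j + k) := by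
      intro k
      induction k with
      | zero => intro j x hx; simpa using hx
      | succ k ih => intro j x hx; rw [pow_succ', mul_smul]; exact hT _ _ (ih j x hx)
    intro m
    have hm : m ∈ Submodule.span (Polynomial B) (s : Set M) := hs ▸ trivial
    induction hm using Submodule.span_induction with
    | mem x hx => exact ⟨0, Submodule.subset_span hx⟩
    | zero => exact ⟨0, zero_mem _⟩
    | add x y _ _ hx hy =>
      obtain ⟨a, ha⟩ := hx; obtain ⟨b, hb⟩ := hy
      exact ⟨max a b, add_mem (hmono (le_max_left a b) ha) (hmono (le_max_right a b) hb)⟩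
    | smul p x _ hx =>
      obtain ⟨a, ha⟩ := hx
      induction p using Polynomial.induction_on' with
      | add p q hp hq =>
        obtain ⟨b, hb⟩ := hp; obtain ⟨c, hc⟩ := hq
        exact ⟨max b c, by rw [add_smul]; exact add_mem (hmono (le_max_left b c) hb) (hmono (le_max_right b c) hc)⟩
      | monomial k b =>
        refine ⟨a + k, ?_⟩
        rw [← Polynomial.C_mul_X_pow_eq_monomial, mul_smul]
        exact Submodule.smul_mem _ b (hXk k a x ha)
  let φ : (j : ℕ) → (↥W₀ →ₗ[B] (M ⧸ W j)) := fun j => (W j).mkQ ∘ₗ (T ^ (j + 1)) ∘ₗ W₀.subtype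
  have hK : Monotone fun j => LinearMap.ker (φ j) := monotone_nat_of_le_succ fun j x hx => by
    simp only [φ, LinearMap.mem_ker, LinearMap.comp_apply, Submodule.mkQ_apply,
      Submodule.Quotient.mk_eq_zero] at hx ⊢
    rw [pow_succ' T (j + 1)]
    exact hT _ _ hx
  obtain ⟨N, hN⟩ := monotone_stabilizes_iff_noetherian.2
    (inferInstanceAs (IsNoetherian B W₀)) ⟨_, hK⟩
  obtain ⟨f₀, hf₀, hk₀⟩ := h W₀
  choose f hf hk using fun j => h (W₀ ⧸ LinearMap.ker (φ j))
  let F := f₀ * ∏ j ∈ Finset.range (N + 1), f j
  have hquot : ∀ j, KillsKer F (W₀ ⧸ LinearMap.ker (φ j)) := by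
    intro j
    by_cases hj : j ≤ N
    · exact (hk j).of_dvd (dvd_mul_of_dvd_right (Finset.dvd_prod_of_mem f (by simp; omega)) _)
    · have e : LinearMap.ker (φ N) = LinearMap.ker (φ j) := hN j (by omega)
      exact ((hk N).of_dvd (dvd_mul_of_dvd_right (Finset.dvd_prod_of_mem f (by simp)) _)).of_linearEquiv
        ((Submodule.quotEquivOfEq _ _ e).restrictScalars D)
  refine ⟨F, mul_ne_zero hf₀ (Finset.prod_ne_zero_iff.2 fun j _ => hf j),
    KillsKer.of_chain (fun j => (W j).restrictScalars D) hmono hcov ?_⟩
  intro j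
  induction j with
  | zero => exact hk₀.mul_right
  | succ j ih =>
    have hmem : ∀ x : W (j + 1), (W j).mkQ x.1 ∈ LinearMap.range (φ j) := by
      rintro ⟨x, hx⟩
      rw [hW'] at hx
      obtain ⟨y, hy, z, ⟨w, hw, rfl⟩, rfl⟩ := Submodule.mem_sup.1 hx
      refine ⟨⟨w, hw⟩, ?_⟩
      simp only [φ, LinearMap.comp_apply, Submodule.mkQ_apply, Submodule.Quotient.mk_add,
        (Submodule.Quotient.mk_eq_zero (W j)).2 hy, zero_add, Submodule.subtype_apply]
    let v : W (j + 1) →ₗ[B] LinearMap.range (φ j) :=
      LinearMap.codRestrict _ ((W j).mkQ ∘ₗ (W (j + 1)).subtype) hmem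
    have hle : W j ≤ W (j + 1) := hmono (Nat.le_succ j)
    refine KillsKer.of_exact (u := ((Submodule.inclusion hle).restrictScalars D))
      (v := v.restrictScalars D) (Submodule.inclusion_injective hle) ?_ ?_ ih
      ((hquot j).of_linearEquiv ((φ j).quotKerEquivRange.restrictScalars D))
    · rintro ⟨_, w, rfl⟩
      refine ⟨⟨(T ^ (j + 1)) w, ?_⟩, rfl⟩
      rw [hW']
      exact Submodule.mem_sup_right (Submodule.mem_map_of_mem w.2)
    · intro x
      refine ⟨fun hx => ?_, ?_⟩
      · have : x.1 ∈ W j := (Submodule.Quotient.mk_eq_zero _).1 (congrArg Subtype.val hx)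
        exact ⟨⟨x.1, this⟩, rfl⟩
      · rintro ⟨y, rfl⟩
        exact Subtype.ext ((Submodule.Quotient.mk_eq_zero _).2 y.2)

theorem genericFlat_mvPolynomial [IsDomain D] [IsNoetherianRing D] :
    ∀ n, GenericFlat D (MvPolynomial (Fin n) D)
  | 0 => by
    intro M _ _ _ _ _
    have : Module.Finite D (MvPolynomial (Fin 0) D) :=
      Module.Finite.of_surjective (Algebra.linearMap D _) fun p =>
        ⟨MvPolynomial.isEmptyAlgEquiv D (Fin 0) p, (MvPolynomial.isEmptyAlgEquiv D (Fin 0)).injective
          ((AlgEquiv.commutes _ _).trans (by simp))⟩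
    have : Module.Finite D M := Module.Finite.trans (MvPolynomial (Fin 0) D) M
    exact exists_killsKer_of_finite M
  | n + 1 => GenericFlat.of_surjective (MvPolynomial.finSuccEquiv D n).symm.toAlgHom
      (MvPolynomial.finSuccEquiv D n).symm.surjective (genericFlat_mvPolynomial n).polynomial

theorem genericFlat_of_finiteType [IsDomain D] [IsNoetherianRing D] (B : Type u) [CommRing B]
    [Algebra D B] [Algebra.FiniteType D B] : GenericFlat D B := by
  obtain ⟨n, φ, hφ⟩ := Algebra.FiniteType.iff_quotient_mvPolynomial''.1 ‹Algebra.FiniteType D B›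
  exact (genericFlat_mvPolynomial n).of_surjective φ hφ

/-- Consequence of generic flatness: finitely many relations among finitely many elements factor
through a free module, up to powers of `f`. -/
theorem KillsKer.exists_factor {f : D} {M : Type u} [AddCommGroup M] [Module D M] (h : KillsKer f M)
    {ι : Type*} [Finite ι] {m : ℕ} (q : Fin m → ι →₀ D) (u : (ι →₀ D) →ₗ[D] M)
    (hq : ∀ j, u (q j) = 0) :
    ∃ (k r : ℕ) (φ : (ι →₀ D) →ₗ[D] (Fin r →₀ D)) (ψ : (Fin r →₀ D) →ₗ[D] M),
      (∀ j, φ (q j) = 0) ∧ f ^ k • u = ψ ∘ₗ φ := by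
  let g := LocalizedModule.mkLinearMap (Submonoid.powers f) M
  have := h.flat_localizedModule
  obtain ⟨r, φ, y, hy, hφ⟩ := Module.Flat.exists_factorization_of_comp_eq_zero_of_free
    (f := Finsupp.linearCombination D q) (x := g ∘ₗ u) (by
      ext j
      simp [hq])
  choose p hp using fun i : Fin r => IsLocalizedModule.surj (Submonoid.powers f) g
    (y (Finsupp.single i 1))
  choose e he using fun i => (p i).2.2
  classical
  let K := ∑ i, e i
  let ψ : (Fin r →₀ D) →ₗ[D] M :=
    Finsupp.linearCombination D fun i => f ^ (K - e i) • (p i).1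
  have hψ : g ∘ₗ ψ = f ^ K • y := by
    ext i
    simp only [LinearMap.comp_apply, Finsupp.lsingle_apply, ψ, Finsupp.linearCombination_single,
      one_smul, map_smul, LinearMap.smul_apply]
    rw [← hp i, Submonoid.smul_def, ← he i, smul_smul, ← pow_add,
      Nat.sub_add_cancel (Finset.single_le_sum (fun _ _ => Nat.zero_le _) (Finset.mem_univ i))]
  have h0 : ∀ i : ι, ∃ l : ℕ, f ^ l • ((f ^ K • u) (Finsupp.single i 1) -
      ψ (φ (Finsupp.single i 1))) = 0 := by
    intro i
    obtain ⟨⟨_, l, rfl⟩, ht⟩ := (IsLocalizedModule.eq_zero_iff (Submonoid.powers f) g).1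
      (show g ((f ^ K • u) (Finsupp.single i 1) - ψ (φ (Finsupp.single i 1))) = 0 by
        rw [map_sub, LinearMap.smul_apply, map_smul, ← LinearMap.comp_apply g ψ, hψ,
          LinearMap.smul_apply, ← LinearMap.comp_apply y φ, ← hy, LinearMap.comp_apply, sub_self])
    exact ⟨l, by rwa [Submonoid.smul_def] at ht⟩
  choose l hl using h0
  have := Fintype.ofFinite ι
  refine ⟨(∑ i, l i) + K, r, φ, f ^ (∑ i, l i) • ψ, fun j => ?_, ?_⟩
  · simpa using congr($hφ (Finsupp.single j 1))
  · ext i
    have := hl i
    rw [smul_sub, sub_eq_zero] at this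
    simp only [LinearMap.comp_apply, Finsupp.lsingle_apply, LinearMap.smul_apply, pow_add, mul_smul]
    rw [← Nat.sub_add_cancel (Finset.single_le_sum (f := l) (fun _ _ => Nat.zero_le _)
      (Finset.mem_univ i)), pow_add, mul_smul, mul_smul]
    exact congrArg _ this

end Groth.Agent.H13Flat
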