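import Groth.Agent.H13Flat.Descend
import Groth.Agent.H12AlgSp.EtaleSourceAlg
import Mathlib.RingTheory.Finiteness.Descent
import Mathlib.RingTheory.FinitePresentation
import Mathlib.RingTheory.Flat.FaithfullyFlat.Algebra
import Mathlib.RingTheory.Flat.Stability
import Mathlib.RingTheory.Spectrum.Prime.Chevalley

/-!
A flat (faithfully flat) finitely presented algebra descends to a flat (faithfully flat) finitely
presented algebra over a finitely generated `ℤ`-subalgebra. Descent of finite type and finite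
presentation along faithfully flat finitely presented maps to the source.
-/

universe u

open TensorProduct MvPolynomial

namespace Groth.Agent.H13Flat

theorem exists_eq_subtype_rTensor {R P : Type u} [CommRing R] [AddCommGroup P] [Module R P]
    (K : Ideal R) (N : Submodule R P) {x : P} (hx : x ∈ K • N) :
    ∃ w : K ⊗[R] N, TensorProduct.lid R P (K.subtype.rTensor P (N.subtype.lTensor K w)) = x := by
  refine Submodule.smul_induction_on hx (fun r hr n hn => ⟨⟨r, hr⟩ ⊗ₜ ⟨n, hn⟩, by simp⟩) ?_
  rintro a b ⟨u, rfl⟩ ⟨v, rfl⟩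
  exact ⟨u + v, by simp⟩

theorem subtype_rTensor_mem {R P : Type u} [CommRing R] [AddCommGroup P] [Module R P]
    (K : Ideal R) (w : K ⊗[R] P) :
    TensorProduct.lid R P (K.subtype.rTensor P w) ∈ K • (⊤ : Submodule R P) := by
  induction w with
  | zero => simp
  | tmul r p => simpa using Submodule.smul_mem_smul r.2 (Submodule.mem_top (x := p))
  | add a b ha hb => simpa using add_mem ha hb

theorem mem_map_C_mul_iff {R : Type u} [CommRing R] {n : ℕ} (K : Ideal R)
    (N : Ideal (MvPolynomial (Fin n) R)) (x : MvPolynomial (Fin n) R) :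
    x ∈ K.map C * N ↔ x ∈ K • N.restrictScalars R := by
  rw [← Ideal.smul_restrictScalars, Submodule.restrictScalars_mem]
  rfl

theorem mem_smul_top_iff {R : Type u} [CommRing R] {n : ℕ} (K : Ideal R)
    (x : MvPolynomial (Fin n) R) :
    x ∈ K.map C ↔ x ∈ K • (⊤ : Submodule R (MvPolynomial (Fin n) R)) := by
  rw [Ideal.smul_top_eq_map, Submodule.restrictScalars_mem]
  rfl

theorem flat_quotient_iff {R : Type u} [CommRing R] {n : ℕ} (N : Ideal (MvPolynomial (Fin n) R)) :
    Module.Flat R (MvPolynomial (Fin n) R ⧸ N) ↔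
      ∀ K : Ideal R, N ⊓ K.map C ≤ K.map C * N := by
  let q : MvPolynomial (Fin n) R →ₗ[R] MvPolynomial (Fin n) R ⧸ N :=
    (Ideal.Quotient.mkₐ R N).toLinearMap
  have hq : Function.Surjective q := Ideal.Quotient.mk_surjective
  have hex : Function.Exact (N.restrictScalars R).subtype q := fun x =>
    ⟨fun hx => ⟨⟨x, Ideal.Quotient.eq_zero_iff_mem.1 hx⟩, rfl⟩,
      fun ⟨y, hy⟩ => hy ▸ Ideal.Quotient.eq_zero_iff_mem.2 y.2⟩
  have key : ∀ (K : Ideal R) (w : K ⊗[R] MvPolynomial (Fin n) R),
      TensorProduct.lid R _ (K.subtype.rTensor _ (q.lTensor K w)) =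
        q (TensorProduct.lid R _ (K.subtype.rTensor _ w)) := fun K w => by
    induction w with
    | zero => simp
    | tmul r p => simp
    | add a b ha hb => simp only [map_add, ha, hb]
  constructor
  · intro _ K x hx
    obtain ⟨w, hw⟩ := exists_eq_subtype_rTensor K ⊤ ((mem_smul_top_iff K x).1 hx.2)
    generalize LinearMap.lTensor (↥K) (Submodule.subtype ⊤) w = w' at hw
    have h0 : q.lTensor K w' = 0 := by
      refine Module.Flat.rTensor_preserves_injective_linearMap K.subtype Subtype.val_injective ?_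
      apply (TensorProduct.lid R (MvPolynomial (Fin n) R ⧸ N)).injective
      rw [key, hw, map_zero, map_zero]
      exact Ideal.Quotient.eq_zero_iff_mem.2 hx.1
    obtain ⟨v, rfl⟩ := (lTensor_exact K hex hq w').1 h0
    rw [mem_map_C_mul_iff, ← hw]
    clear hw h0
    induction v with
    | zero => simp
    | tmul r p =>
      simpa using Submodule.smul_mem_smul (N := N.restrictScalars R) r.2 p.2
    | add a b ha hb => simpa only [map_add] using add_mem ha hb
  · intro h
    rw [Module.Flat.iff_rTensor_injective']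
    intro K
    rw [injective_iff_map_eq_zero]
    intro z hz
    obtain ⟨w, rfl⟩ := LinearMap.lTensor_surjective K hq z
    have hx : TensorProduct.lid R _ (K.subtype.rTensor _ w) ∈ K.map C * N := by
      refine h K ⟨?_, (mem_smul_top_iff K _).2 (subtype_rTensor_mem K w)⟩
      refine Ideal.Quotient.eq_zero_iff_mem.1 ?_
      change q _ = 0
      rw [← key, hz, map_zero]
    rw [mem_map_C_mul_iff] at hx
    obtain ⟨v, hv⟩ := exists_eq_subtype_rTensor K _ hx
    rw [← Module.Flat.rTensor_preserves_injective_linearMap K.subtype Subtype.val_injective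
      ((TensorProduct.lid R (MvPolynomial (Fin n) R)).injective hv)]
    exact (lTensor_exact K hex hq _).2 ⟨v, rfl⟩

/-- Base change of the presentation of a quotient of a polynomial ring. -/
theorem nonempty_tensor_quotient_equiv {R A : Type u} [CommRing R] [CommRing A] [Algebra R A] {n : ℕ}
    (N : Ideal (MvPolynomial (Fin n) R)) (I : Ideal (MvPolynomial (Fin n) A))
    (hI : I = N.map (MvPolynomial.map (algebraMap R A))) :
    Nonempty (A ⊗[R] (MvPolynomial (Fin n) R ⧸ N) ≃ₐ[A] MvPolynomial (Fin n) A ⧸ I) := by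
  let mk := Ideal.Quotient.mkₐ R N
  let back : MvPolynomial (Fin n) A →ₐ[A] A ⊗[R] (MvPolynomial (Fin n) R ⧸ N) :=
    MvPolynomial.aeval fun i => (1 : A) ⊗ₜ[R] mk (X i)
  have hback : ∀ p, back (MvPolynomial.map (algebraMap R A) p) = 1 ⊗ₜ mk p := by
    intro p
    induction p using MvPolynomial.induction_on with
    | C r =>
      rw [MvPolynomial.map_C, ← MvPolynomial.algebraMap_eq, AlgHom.commutes,
        Algebra.TensorProduct.algebraMap_apply, Algebra.algebraMap_self, RingHom.id_apply,
        Algebra.algebraMap_eq_smul_one r, smul_tmul, ← MvPolynomial.algebraMap_eq,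
        AlgHom.commutes, Algebra.algebraMap_eq_smul_one]
    | add p q hp hq => simp only [map_add, hp, hq, tmul_add]
    | mul_X p i hp =>
      simp only [map_mul, MvPolynomial.map_X, hp, back, MvPolynomial.aeval_X,
        Algebra.TensorProduct.tmul_mul_tmul, mul_one]
  let f₁ : MvPolynomial (Fin n) R →ₐ[R] MvPolynomial (Fin n) A ⧸ I :=
    MvPolynomial.aeval fun i => Ideal.Quotient.mk I (X i)
  have hf₁ : ∀ p, f₁ p = Ideal.Quotient.mk I (MvPolynomial.map (algebraMap R A) p) := by
    intro p
    induction p using MvPolynomial.induction_on with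
    | C r =>
      rw [MvPolynomial.map_C, ← MvPolynomial.algebraMap_eq, AlgHom.commutes,
        IsScalarTower.algebraMap_apply R A]
      rfl
    | add p q hp hq => simp only [map_add, hp, hq]
    | mul_X p i hp =>
      rw [map_mul, map_mul, map_mul, hp, MvPolynomial.map_X]
      simp only [f₁, MvPolynomial.aeval_X]
  let fwd : A ⊗[R] (MvPolynomial (Fin n) R ⧸ N) →ₐ[A] MvPolynomial (Fin n) A ⧸ I :=
    Algebra.TensorProduct.lift (Algebra.ofId A _)
      (Ideal.Quotient.liftₐ N f₁ fun p hp => by
        rw [hf₁]; exact Ideal.Quotient.eq_zero_iff_mem.2 (hI ▸ Ideal.mem_map_of_mem _ hp))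
      fun _ _ => .all _ _
  let bwd : (MvPolynomial (Fin n) A ⧸ I) →ₐ[A] A ⊗[R] (MvPolynomial (Fin n) R ⧸ N) :=
    Ideal.Quotient.liftₐ I back fun p hp => by
      have : I ≤ RingHom.ker back := by
        rw [hI, Ideal.map_le_iff_le_comap]
        intro q hq
        rw [Ideal.mem_comap, RingHom.mem_ker, hback, show mk q = 0 from
          Ideal.Quotient.eq_zero_iff_mem.2 hq, tmul_zero]
      exact this hp
  refine ⟨AlgEquiv.ofAlgHom fwd bwd ?_ ?_⟩
  · refine Ideal.Quotient.algHom_ext _ (MvPolynomial.algHom_ext fun i => ?_)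
    simp [fwd, bwd, back, f₁, mk]
  · refine Algebra.TensorProduct.ext' fun a b => ?_
    obtain ⟨p, rfl⟩ := Ideal.Quotient.mk_surjective b
    simp only [AlgHom.comp_apply, AlgHom.id_apply, fwd, Algebra.TensorProduct.lift_tmul]
    change bwd (algebraMap A _ a * f₁ p) = _
    rw [map_mul, AlgHom.commutes, hf₁]
    change _ * back (MvPolynomial.map (algebraMap R A) p) = _
    rw [hback, Algebra.TensorProduct.algebraMap_apply, Algebra.TensorProduct.tmul_mul_tmul,
      mul_one, one_mul]
    rfl

/-- A flat finitely presented algebra descends to a finitely generated `ℤ`-subalgebra. -/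
theorem exists_flat_stage (A B : Type u) [CommRing A] [CommRing B] [Algebra A B]
    [Algebra.FinitePresentation A B] [Module.Flat A B] :
    ∃ (R : Subalgebra ℤ A), R.FG ∧ ∃ (B₀ : Type u) (_ : CommRing B₀) (_ : Algebra R B₀),
      Algebra.FinitePresentation R B₀ ∧ Module.Flat R B₀ ∧ Nonempty (A ⊗[R] B₀ ≃ₐ[A] B) := by
  classical
  obtain ⟨n, f, hf, hker⟩ := Algebra.FinitePresentation.out (R := A) (A := B)
  obtain ⟨G, hG⟩ := hker
  let e : (MvPolynomial (Fin n) A ⧸ Ideal.span (G : Set (MvPolynomial (Fin n) A))) ≃ₐ[A] B :=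
    (Ideal.quotientEquivAlgOfEq A hG).trans (Ideal.quotientKerAlgEquivOfSurjective hf)
  have hflat : Module.Flat A
      (MvPolynomial (Fin n) A ⧸ Ideal.span (G : Set (MvPolynomial (Fin n) A))) :=
    Module.Flat.of_linearEquiv e.toLinearEquiv
  let R₀ := Algebra.adjoin ℤ ((G.biUnion MvPolynomial.coeffs : Finset A) : Set A)
  have hGR : (G : Set (MvPolynomial (Fin n) A)) ⊆ Set.range (incl R₀) := fun g hg =>
    MvPolynomial.mem_range_map_iff_coeffs_subset.2 fun a ha =>
      ⟨⟨a, Algebra.subset_adjoin (Finset.mem_coe.2 (Finset.mem_biUnion.2 ⟨g, hg, ha⟩))⟩, rfl⟩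
  obtain ⟨R, hle, hR, H⟩ := exists_stage_inf_le (Subalgebra.fg_adjoin_finset _) hGR
    ((flat_quotient_iff _).1 hflat)
  have hH := H R le_rfl hR
  have hiff := (flat_quotient_iff (stageIdeal (G : Set (MvPolynomial (Fin n) A)) R))
  have hflat₀ := hiff.2 hH
  have := isNoetherianRing_stage hR
  let N := stageIdeal (G : Set (MvPolynomial (Fin n) A)) R
  have hI : Ideal.span (G : Set (MvPolynomial (Fin n) A)) =
      N.map (MvPolynomial.map (algebraMap R A)) := by
    change _ = Ideal.map (incl R) N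
    rw [show N = Ideal.span _ from rfl, Ideal.map_span, Set.image_preimage_eq_inter_range,
      Set.inter_eq_left.2 (hGR.trans ?_)]
    rintro _ ⟨p, rfl⟩
    exact ⟨trans hle p, incl_trans hle p⟩
  obtain ⟨e₀⟩ := nonempty_tensor_quotient_equiv (A := A) N _ hI
  exact ⟨R, hR, MvPolynomial (Fin n) R ⧸ N, inferInstance, inferInstance,
    Algebra.FinitePresentation.quotient (IsNoetherian.noetherian N), hflat₀, ⟨e₀.trans e⟩⟩

/-- A faithfully flat finitely presented algebra descends to a finitely generated `ℤ`-subalgebra. -/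
theorem exists_faithfullyFlat_stage (A B : Type u) [CommRing A] [CommRing B] [Algebra A B]
    [Algebra.FinitePresentation A B] [Module.FaithfullyFlat A B] :
    ∃ (R : Subalgebra ℤ A), R.FG ∧ ∃ (B₀ : Type u) (_ : CommRing B₀) (_ : Algebra R B₀),
      Algebra.FinitePresentation R B₀ ∧ Module.FaithfullyFlat R B₀ ∧
        Nonempty (A ⊗[R] B₀ ≃ₐ[A] B) := by
  classical
  obtain ⟨R, hR, B₀, _, _, _, _, ⟨e⟩⟩ := exists_flat_stage A B
  have := isNoetherianRing_stage hR
  have hopen : IsOpen (Set.range (PrimeSpectrum.comap (algebraMap R B₀))) :=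
    (PrimeSpectrum.isOpenMap_comap_of_hasGoingDown_of_finitePresentation).isOpen_range
  obtain ⟨J, hJ⟩ := (PrimeSpectrum.isClosed_iff_zeroLocus_ideal _).1 hopen.isClosed_compl
  have htop : J.map (algebraMap R A) = ⊤ := by
    by_contra h
    obtain ⟨m, hm, hle⟩ := Ideal.exists_le_maximal _ h
    obtain ⟨q, hq⟩ := PrimeSpectrum.comap_surjective_of_faithfullyFlat (A := A) (B := B)
      ⟨m, hm.isPrime⟩
    have h1 : PrimeSpectrum.comap (algebraMap R A) ⟨m, hm.isPrime⟩ ∈
        PrimeSpectrum.zeroLocus (J : Set R) := Ideal.map_le_iff_le_comap.1 hle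
    rw [← hJ] at h1
    refine h1 ⟨PrimeSpectrum.comap
      (e.toAlgHom.toRingHom.comp Algebra.TensorProduct.includeRight.toRingHom) q, ?_⟩
    rw [← hq, ← PrimeSpectrum.comap_comp_apply, ← PrimeSpectrum.comap_comp_apply]
    congr 1
    ext r
    change e (1 ⊗ₜ algebraMap R B₀ r) = algebraMap A B (algebraMap R A r)
    rw [← AlgEquiv.commutes e (algebraMap R A r), Algebra.TensorProduct.algebraMap_apply,
      Algebra.algebraMap_self, RingHom.id_apply, Algebra.algebraMap_eq_smul_one r,
      ← TensorProduct.smul_tmul, ← Algebra.algebraMap_eq_smul_one]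
  obtain ⟨m, c, j, hsum⟩ := (Submodule.mem_span_set' (s := algebraMap R A '' J)).1
    (show (1 : A) ∈ Ideal.span (algebraMap R A '' J) from
      ((Ideal.map (algebraMap R A) J).eq_top_iff_one).1 htop)
  let R' := R ⊔ Algebra.adjoin ℤ (Finset.univ.image c : Set A)
  let : Algebra R R' := (Subalgebra.inclusion (le_sup_left : R ≤ R')).toRingHom.toAlgebra
  have : IsScalarTower R R' A := .of_algebraMap_eq fun _ => rfl
  have hJR : J.map (algebraMap R R') = ⊤ := by
    rw [Ideal.eq_top_iff_one]
    choose j₀ hj₀ hj₀' using fun i => (j i).2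
    have hc : ∀ i, c i ∈ R' := fun i => (le_sup_right : _ ≤ R')
      (Algebra.subset_adjoin (by simp))
    have : (1 : R') = ∑ i, (⟨c i, hc i⟩ : R') * algebraMap R R' (j₀ i) := by
      apply Subtype.val_injective
      simp only [AddSubmonoidClass.coe_finset_sum, MulMemClass.coe_mul, OneMemClass.coe_one]
      rw [← hsum]
      refine Finset.sum_congr rfl fun i _ => ?_
      rw [← hj₀' i]
      rfl
    rw [this]
    exact sum_mem fun i _ => Ideal.mul_mem_left _ _ (Ideal.mem_map_of_mem _ (hj₀ i))
  refine ⟨R', hR.sup (Subalgebra.fg_adjoin_finset _), R' ⊗[R] B₀, inferInstance, inferInstance,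
    inferInstance, ?_, ⟨(Algebra.TensorProduct.cancelBaseChange R R' A A B₀).trans e⟩⟩
  refine Module.FaithfullyFlat.of_comap_surjective fun p =>
    Groth.Agent.H12AlgSp.EtaleSource.exists_prime_tensor p ?_
  by_contra h
  have h1 : p.comap (algebraMap R R') ∈ PrimeSpectrum.zeroLocus (J : Set R) := hJ ▸ h
  exact p.isPrime.ne_top (top_le_iff.1 (hJR ▸ Ideal.map_le_iff_le_comap.2 h1))

/-- If `A → C → D` is faithfully flat and finitely presented and `C` is of finite type over `R`
then so is `A`. -/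
theorem finiteType_of_refinement {R A C D : Type u} [CommRing R] [CommRing A] [CommRing C] [CommRing D]
    [Algebra R A] [Algebra A D] [Algebra R D] [IsScalarTower R A D] [Algebra R C]
    [Algebra.FinitePresentation A D] [Module.FaithfullyFlat A D] [Algebra.FiniteType R C]
    (g : A →ₐ[R] C) (h : C →ₐ[R] D) (hh : ∀ a, h (g a) = algebraMap A D a) :
    Algebra.FiniteType R A := by
  classical
  obtain ⟨S, hS, B₀, _, _, _, _, ⟨e⟩⟩ := exists_faithfullyFlat_stage A D
  obtain ⟨s, hs⟩ := hS
  obtain ⟨gC, hgC⟩ := (Algebra.FiniteType.out : (⊤ : Subalgebra R C).FG)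
  choose F hF using fun b : C => TensorProduct.exists_finset (e.symm (h b))
  let T : Finset A := s ∪ gC.biUnion fun b => (F b).image Prod.fst
  let A₁ := Algebra.adjoin R (T : Set A)
  have hSA : ∀ x ∈ S, x ∈ A₁ := by
    intro x hx
    have : S ≤ A₁.restrictScalars ℤ := by
      rw [← hs]
      exact Algebra.adjoin_le fun y hy =>
        Algebra.subset_adjoin (Finset.mem_coe.2 (Finset.mem_union_left _ hy))
    exact this hx
  let i : S →+* A₁ := (S.val.toRingHom).codRestrict A₁ fun x => hSA x x.2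
  let : Algebra S A₁ := i.toAlgebra
  have : IsScalarTower S A₁ A := .of_algebraMap_eq fun _ => rfl
  let φ : A₁ ⊗[S] B₀ →ₐ[A₁] A ⊗[S] B₀ :=
    Algebra.TensorProduct.map (Algebra.ofId A₁ A) (AlgHom.id S B₀)
  let ψ : A₁ ⊗[S] B₀ →ₐ[R] D :=
    ((e.toAlgHom.restrictScalars A₁).comp φ).restrictScalars R
  have hC : h.range ≤ ψ.range := by
    rw [← Algebra.map_top, ← hgC, AlgHom.map_adjoin]
    refine Algebra.adjoin_le ?_
    rintro _ ⟨b, hb, rfl⟩
    have : ∀ p ∈ F b, p.1 ∈ A₁ := fun p hp => Algebra.subset_adjoin (Finset.mem_coe.2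
      (Finset.mem_union_right _ (Finset.mem_biUnion.2 ⟨b, hb, Finset.mem_image_of_mem _ hp⟩)))
    refine ⟨∑ p ∈ (F b).attach, (⟨p.1.1, this p.1 p.2⟩ : A₁) ⊗ₜ p.1.2, ?_⟩
    have e1 : φ (∑ p ∈ (F b).attach, (⟨p.1.1, this p.1 p.2⟩ : A₁) ⊗ₜ p.1.2) = e.symm (h b) := by
      rw [map_sum, hF b, ← Finset.sum_attach (F b)]
      exact Finset.sum_congr rfl fun p _ => rfl
    change e (φ _) = h b
    rw [e1, e.apply_symm_apply]
  have hψ : Function.Surjective ψ := by
    intro d
    obtain ⟨z, rfl⟩ := e.surjective d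
    induction z with
    | zero => exact ⟨0, by simp⟩
    | tmul a b =>
      obtain ⟨w, hw⟩ := hC ⟨g a, rfl⟩
      refine ⟨w * ((1 : A₁) ⊗ₜ b), ?_⟩
      rw [map_mul]
      refine (congrArg₂ (· * ·) (hw.trans (hh a)) (rfl : ψ _ = e ((1 : A) ⊗ₜ b))).trans ?_
      rw [← e.commutes, ← map_mul, Algebra.TensorProduct.algebraMap_apply, Algebra.algebraMap_self,
        RingHom.id_apply, Algebra.TensorProduct.tmul_mul_tmul, mul_one, one_mul]
    | add a b ha hb =>
      obtain ⟨v, hv⟩ := ha
      obtain ⟨w, hw⟩ := hb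
      exact ⟨v + w, by rw [map_add, hv, hw, map_add]⟩
  have hsurj : Function.Surjective ((IsScalarTower.toAlgHom S A₁ A).toLinearMap) := by
    rw [← Module.FaithfullyFlat.lTensor_surjective_iff_surjective S B₀]
    intro z
    obtain ⟨w, hw⟩ := hψ (e (TensorProduct.comm S B₀ A z))
    refine ⟨TensorProduct.comm S A₁ B₀ w, ?_⟩
    apply (TensorProduct.comm S B₀ A).injective
    apply e.injective
    rw [← hw]
    change _ = e (φ w)
    congr 1
    clear hw
    induction w with
    | zero => simp
    | tmul a b => rfl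
    | add a b ha hb => simp only [map_add, ha, hb]
  have : Algebra.FiniteType R A₁ := A₁.fg_iff_finiteType.1 (Subalgebra.fg_adjoin_finset T)
  exact Algebra.FiniteType.of_surjective (IsScalarTower.toAlgHom R A₁ A) fun a => hsurj a

/-- Finite type descends along faithfully flat finitely presented maps to the source. -/
theorem finiteType_of_faithfullyFlat {R A B : Type u} [CommRing R] [CommRing A] [CommRing B]
    [Algebra R A] [Algebra A B] [Algebra R B] [IsScalarTower R A B]
    [Algebra.FinitePresentation A B] [Module.FaithfullyFlat A B] [Algebra.FiniteType R B] :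
    Algebra.FiniteType R A :=
  finiteType_of_refinement (IsScalarTower.toAlgHom R A B) (AlgHom.id R B) fun _ => rfl

/-- A finite type algebra is a quotient of a finitely presented algebra over a given
`ℤ`-algebra of finite presentation. -/
theorem exists_fp_cover (R A S : Type u) [CommRing R] [CommRing A] [CommRing S] [Algebra R A]
    [Algebra S A] [Algebra.FiniteType R A] [Algebra.FinitePresentation ℤ S] :
    ∃ (A₂ : Type u) (_ : CommRing A₂) (_ : Algebra R A₂) (_ : Algebra S A₂) (ψ : A₂ →ₐ[R] A),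
      Algebra.FinitePresentation R A₂ ∧ Function.Surjective ψ ∧
        ∀ x, ψ (algebraMap S A₂ x) = algebraMap S A x := by
  obtain ⟨m, π, hπ⟩ := Algebra.FiniteType.iff_quotient_mvPolynomial''.1 ‹Algebra.FiniteType R A›
  let φ : R ⊗[ℤ] S →ₐ[R] A :=
    Algebra.TensorProduct.lift (Algebra.ofId R A) (algebraMap S A).toIntAlgHom fun _ _ => .all _ _
  let ψ : MvPolynomial (Fin m) (R ⊗[ℤ] S) →ₐ[R] A := MvPolynomial.aevalTower φ fun i => π (X i)
  refine ⟨MvPolynomial (Fin m) (R ⊗[ℤ] S), inferInstance, inferInstance,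
    ((algebraMap (R ⊗[ℤ] S) (MvPolynomial (Fin m) (R ⊗[ℤ] S))).comp
      (Algebra.TensorProduct.includeRight (R := ℤ) (A := R)).toRingHom).toAlgebra, ψ,
    Algebra.FinitePresentation.trans R (R ⊗[ℤ] S) (MvPolynomial (Fin m) (R ⊗[ℤ] S)), fun a => ?_,
    fun x => ?_⟩
  · obtain ⟨p, rfl⟩ := hπ a
    refine ⟨MvPolynomial.map (algebraMap R (R ⊗[ℤ] S)) p, ?_⟩
    induction p using MvPolynomial.induction_on with
    | C r =>
      rw [MvPolynomial.map_C]
      exact (MvPolynomial.aevalTower_C φ _ _).trans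
        ((φ.commutes r).trans (π.commutes r).symm)
    | add p q hp hq => simp [map_add, hp, hq]
    | mul_X p i hp =>
      rw [map_mul, map_mul, map_mul, hp, MvPolynomial.map_X]
      exact congrArg _ (MvPolynomial.aevalTower_X φ _ i)
  · refine (MvPolynomial.aevalTower_C φ _ _).trans ?_
    exact (Algebra.TensorProduct.lift_tmul _ _ _ _ _).trans (by simp)

/-- If `A → C → D` is faithfully flat and finitely presented and `C` is of finite presentation
over `R` then so is `A`. -/
theorem finitePresentation_of_refinement {R A C D : Type u} [CommRing R] [CommRing A] [CommRing C]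
    [CommRing D] [Algebra R A] [Algebra A D] [Algebra R D] [IsScalarTower R A D] [Algebra R C]
    [Algebra.FinitePresentation A D] [Module.FaithfullyFlat A D] [Algebra.FinitePresentation R C]
    (g : A →ₐ[R] C) (h : C →ₐ[R] D) (hh : ∀ a, h (g a) = algebraMap A D a) :
    Algebra.FinitePresentation R A := by
  classical
  have : Algebra.FiniteType R A := finiteType_of_refinement g h hh
  obtain ⟨S, hS, B₀, _, _, _, _, ⟨e⟩⟩ := exists_faithfullyFlat_stage A D
  have hSfp : Algebra.FinitePresentation ℤ S :=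
    Algebra.FinitePresentation.of_finiteType.1 (S.fg_iff_finiteType.1 hS)
  obtain ⟨A₂, _, _, _, ψ, _, hψ, hψS⟩ := exists_fp_cover R A S
  let : Algebra A₂ A := ψ.toRingHom.toAlgebra
  have : IsScalarTower S A₂ A := .of_algebraMap_eq fun x => (hψS x).symm
  have : IsScalarTower R A₂ A := .of_algebraMap_eq fun x => (ψ.commutes x).symm
  let : Algebra A₂ D := ((algebraMap A D).comp (algebraMap A₂ A)).toAlgebra
  have : IsScalarTower A₂ A D := .of_algebraMap_eq fun _ => rfl
  have : IsScalarTower R A₂ D := .of_algebraMap_eq fun x => by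
    rw [IsScalarTower.algebraMap_apply R A D, IsScalarTower.algebraMap_apply R A₂ A]
    rfl
  let μ : A₂ →ₐ[S] A := IsScalarTower.toAlgHom S A₂ A
  let P := A₂ ⊗[S] B₀
  let ι : A₂ →ₐ[R] P := Algebra.TensorProduct.includeLeft
  let Φ : P →ₐ[R] D :=
    ((e.toAlgHom.restrictScalars A₂).comp
      (Algebra.TensorProduct.map (Algebra.ofId A₂ A) (AlgHom.id S B₀))).restrictScalars R
  have hmap : ∀ w, Φ w = e (Algebra.TensorProduct.map μ (AlgHom.id S B₀) w) := fun w => by
    induction w using TensorProduct.induction_on with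
    | zero => simp
    | tmul a b => rfl
    | add a b ha hb => simp only [map_add, ha, hb]
  have hΦι : ∀ x, Φ (ι x) = algebraMap A D (ψ x) := fun x => by
    change e ((algebraMap A₂ A x) ⊗ₜ 1) = _
    rw [← e.commutes, Algebra.TensorProduct.algebraMap_apply]
    rfl
  have hΦ : Function.Surjective Φ := by
    intro b
    obtain ⟨w, hw⟩ := LinearMap.rTensor_surjective B₀ (g := μ.toLinearMap) hψ (e.symm b)
    refine ⟨w, ?_⟩
    rw [hmap]
    exact (congrArg e (show Algebra.TensorProduct.map μ (AlgHom.id S B₀) w = e.symm b from hw)).trans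
      (e.apply_symm_apply b)
  have hker : ∀ w, Φ w = 0 → w ∈ (RingHom.ker μ).map ι := fun w hw => by
    have : w ∈ RingHom.ker (Algebra.TensorProduct.map μ (AlgHom.id S B₀)) := by
      rw [RingHom.mem_ker]
      rwa [hmap, EmbeddingLike.map_eq_zero_iff] at hw
    rw [Algebra.TensorProduct.rTensor_ker μ hψ] at this
    exact this
  obtain ⟨n, ρ, hρ, hG⟩ := Algebra.FinitePresentation.out (R := R) (A := C)
  obtain ⟨G, hG⟩ := hG
  choose z hz using fun i => hΦ (h (ρ (MvPolynomial.X i)))
  let γ₀ : MvPolynomial (Fin n) R →ₐ[R] P := MvPolynomial.aeval z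
  have hγ : ∀ p, Φ (γ₀ p) = h (ρ p) := fun p => by
    refine DFunLike.congr_fun (?_ : Φ.comp γ₀ = h.comp ρ) p
    exact MvPolynomial.algHom_ext fun i => by simp [γ₀, hz]
  obtain ⟨Y, hY⟩ := (Algebra.FiniteType.out : (⊤ : Subalgebra R A₂).FG)
  choose p hp using fun y => hρ (g (ψ y))
  let E : Finset P := (G.image γ₀) ∪ (Y.image fun y => ι y - γ₀ (p y))
  have hE : ∀ w ∈ E, w ∈ Ideal.span (ι '' (RingHom.ker μ : Set A₂)) := by
    intro w hw
    refine hker w ?_
    simp only [E, Finset.mem_union, Finset.mem_image] at hw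
    obtain ⟨q, hq, rfl⟩ | ⟨y, -, rfl⟩ := hw
    · have hq0 : ρ q = 0 := by
        have : q ∈ RingHom.ker ρ.toRingHom := hG ▸ Ideal.subset_span hq
        exact this
      rw [hγ, hq0, map_zero]
    · rw [map_sub, hΦι, hγ, hp, hh, sub_self]
  choose T hTs hT using fun w : E => Submodule.mem_span_finite_of_mem_span (hE w w.2)
  let J := Ideal.span (⋃ w : E, (T w : Set P))
  have hJle : J ≤ (RingHom.ker μ).map ι :=
    Ideal.span_mono (Set.iUnion_subset fun w => hTs w)
  have hEJ : ∀ w ∈ E, w ∈ J := fun w hw =>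
    Submodule.span_mono (Set.subset_iUnion (fun w : E => (T w : Set P)) ⟨w, hw⟩) (hT ⟨w, hw⟩)
  let q := Ideal.Quotient.mkₐ R J
  let γ' : (MvPolynomial (Fin n) R ⧸ RingHom.ker ρ.toRingHom) →ₐ[R] P ⧸ J := Ideal.Quotient.liftₐ (RingHom.ker ρ.toRingHom) (q.comp γ₀) fun x hx => by
    have : RingHom.ker ρ.toRingHom ≤ RingHom.ker (q.comp γ₀).toRingHom := by
      rw [← hG, Ideal.span_le]
      intro x hx
      exact Ideal.Quotient.eq_zero_iff_mem.2 (hEJ _ (Finset.mem_union_left _ (Finset.mem_image_of_mem _ hx)))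
    exact this hx
  let γ : C →ₐ[R] P ⧸ J := γ'.comp (Ideal.quotientKerAlgEquivOfSurjective hρ).symm.toAlgHom
  have hγρ : ∀ x, γ (ρ x) = q (γ₀ x) := fun x => by
    have e1 : (Ideal.quotientKerAlgEquivOfSurjective hρ).symm (ρ x) =
        Ideal.Quotient.mk (RingHom.ker ρ.toRingHom) x :=
      (AlgEquiv.symm_apply_eq _).2 rfl
    change γ' ((Ideal.quotientKerAlgEquivOfSurjective hρ).symm (ρ x)) = _
    rw [e1]
    rfl
  have heq : q.comp ι = γ.comp (g.comp ψ) := by
    refine AlgHom.ext_of_adjoin_eq_top hY fun y hy => ?_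
    change q (ι y) = γ (g (ψ y))
    rw [← hp, hγρ, ← sub_eq_zero, ← map_sub]
    exact Ideal.Quotient.eq_zero_iff_mem.2 (hEJ _ (Finset.mem_union_right _ (Finset.mem_image_of_mem _ hy)))
  have hIJ : (RingHom.ker μ).map ι = J := by
    refine le_antisymm (Ideal.map_le_iff_le_comap.2 fun a ha => Ideal.mem_comap.2 (Ideal.Quotient.eq_zero_iff_mem.1 ?_)) hJle
    change q.comp ι a = 0
    have ha' : ψ a = 0 := ha
    rw [heq]
    change γ (g (ψ a)) = 0
    rw [ha', map_zero, map_zero]
  have hI : (RingHom.ker ψ).FG := by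
    refine Ideal.FG.of_FG_map_of_faithfullyFlat (S := P) (I := RingHom.ker ψ) ?_
    change ((RingHom.ker μ).map ι).FG
    rw [hIJ]
    exact ⟨Finset.univ.biUnion T, by rw [Finset.coe_biUnion]; simp [J]⟩
  exact Algebra.FinitePresentation.of_surjective hψ hI

/-- Finite presentation descends along faithfully flat finitely presented maps to the source. -/
theorem finitePresentation_of_faithfullyFlat {R A B : Type u} [CommRing R] [CommRing A] [CommRing B]
    [Algebra R A] [Algebra A B] [Algebra R B] [IsScalarTower R A B]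
    [Algebra.FinitePresentation A B] [Module.FaithfullyFlat A B] [Algebra.FinitePresentation R B] :
    Algebra.FinitePresentation R A :=
  finitePresentation_of_refinement (IsScalarTower.toAlgHom R A B) (AlgHom.id R B) fun _ => rfl

end Groth.Agent.H13Flat
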