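import Groth.Agent.H13Flat.Scheme
import Groth.Agent.H02CA.SmoothRegular
import Groth.Agent.H17.SmoothPoint
import Groth.Agent.H13Desc.Flat
import Groth.Agent.S9406
import Groth.Agent.S9442
import Mathlib.RingTheory.Etale.Field
import Mathlib.RingTheory.Smooth.Flat
import Mathlib.RingTheory.Flat.FaithfullyFlat.Algebra
import Mathlib.AlgebraicGeometry.Morphisms.Smooth
import Mathlib.AlgebraicGeometry.Morphisms.Etale

/-!
Smooth and etale descend along faithfully flat finitely presented maps to the source.
-/

universe u

open TensorProduct CategoryTheory AlgebraicGeometry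

namespace Groth.Agent.H13Flat

/-- A property of ring maps descends along faithfully flat finitely presented maps to the source. -/
def SourceDescendsSimple (Q : ∀ {R S : Type u} [CommRing R] [CommRing S], (R →+* S) → Prop) : Prop :=
  ∀ {A B C : Type u} [CommRing A] [CommRing B] [CommRing C] [Algebra A B] [Algebra A C]
    [Algebra B C] [IsScalarTower A B C] [Algebra.FinitePresentation B C] [Module.FaithfullyFlat B C],
    Q (algebraMap A C) → Q (algebraMap A B)

attribute [local instance] Algebra.TensorProduct.rightAlgebra in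
theorem exists_localization_of_flat_fp
    {Q : ∀ {R S : Type u} [CommRing R] [CommRing S], (R →+* S) → Prop}
    (hloc : RingHom.StableUnderCompositionWithLocalizationAwayTarget Q)
    (hQ : SourceDescendsSimple Q) {A B T : Type u} [CommRing A] [CommRing B] [CommRing T]
    (g : A →+* B) (h : B →+* T) (hfl : h.Flat) (hfp : h.FinitePresentation) (hg : Q (h.comp g))
    (q : PrimeSpectrum T) :
    ∃ b : B, b ∉ (q.comap h).asIdeal ∧ Q ((algebraMap B (Localization.Away b)).comp g) := by
  let := g.toAlgebra
  let := h.toAlgebra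
  let := (h.comp g).toAlgebra
  have : IsScalarTower A B T := .of_algebraMap_eq' rfl
  have : Module.Flat B T := hfl
  have : Algebra.FinitePresentation B T := hfp
  have hopen : IsOpen (Set.range (PrimeSpectrum.comap (algebraMap B T))) :=
    (PrimeSpectrum.isOpenMap_comap_of_hasGoingDown_of_finitePresentation).isOpen_range
  have hmem : q.comap h ∈ Set.range (PrimeSpectrum.comap (algebraMap B T)) := ⟨q, rfl⟩
  obtain ⟨_, ⟨_, ⟨b, rfl⟩, rfl⟩, hb, hbsub⟩ :=
    PrimeSpectrum.isBasis_basic_opens.exists_subset_of_mem_open hmem hopen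
  refine ⟨b, hb, ?_⟩
  let C := Localization.Away b ⊗[B] T
  have : Module.FaithfullyFlat (Localization.Away b) C := by
    refine Module.FaithfullyFlat.of_comap_surjective fun p =>
      Groth.Agent.H12AlgSp.EtaleSource.exists_prime_tensor p (hbsub ?_)
    change b ∉ Ideal.comap _ p.asIdeal
    intro hp
    exact p.isPrime.ne_top' (Ideal.eq_top_of_isUnit_mem _ hp
      (IsLocalization.Away.algebraMap_isUnit b))
  have h2 : Q (algebraMap A C) := by
    have : IsLocalization.Away (algebraMap B T b) C := by
      change IsLocalization (Submonoid.powers (algebraMap B T b)) C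
      rw [← Algebra.algebraMapSubmonoid_powers]
      exact IsLocalization.tensorRight (S := T) (Localization.Away b) (Submonoid.powers b)
    have : IsScalarTower A T C := .of_algebraMap_eq fun a => by
      rw [IsScalarTower.algebraMap_apply A B C, IsScalarTower.algebraMap_apply A B T,
        IsScalarTower.algebraMap_apply B T C]
    rw [IsScalarTower.algebraMap_eq A T C]
    exact hloc C (algebraMap B T b) _ hg
  rw [← RingHom.algebraMap_toAlgebra g, ← IsScalarTower.algebraMap_eq]
  exact hQ h2

/-- A property induced by a ring property descends along flat, locally finitely presented covers. -/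
theorem of_fppf_covering_simple (P : MorphismProperty Scheme.{u})
    {Q : ∀ {R S : Type u} [CommRing R] [CommRing S], (R →+* S) → Prop} [HasRingHomProperty P Q]
    (hQ : SourceDescendsSimple Q) {X Y : Scheme.{u}} (g : X ⟶ Y)
    (hcov : ∀ x : X, ∃ (X' : Scheme.{u}) (f : X' ⟶ X),
      Flat f ∧ LocallyOfFinitePresentation f ∧ x ∈ Set.range f ∧ P (f ≫ g)) :
    P g := by
  have hl := HasRingHomProperty.isLocal_ringHomProperty P
  rw [HasRingHomProperty.iff_appLE (P := P)]
  intro U V e
  set ψ := (g.appLE U V e).hom
  let s : Set Γ(X, V.1) := { b | Q ((algebraMap _ (Localization.Away b)).comp ψ) }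
  refine hl.ofLocalizationSpanTarget ψ s ?_ (fun r => r.2)
  by_contra hne
  obtain ⟨m, hm, hle⟩ := Ideal.exists_le_maximal _ hne
  let p : PrimeSpectrum Γ(X, V.1) := ⟨m, hm.isPrime⟩
  let x : X := V.2.fromSpec p
  have hxV : x ∈ V.1 := V.2.range_fromSpec.le ⟨p, rfl⟩
  obtain ⟨X', f, hf₁, hf₂, ⟨x', hx'⟩, h⟩ := hcov x
  obtain ⟨W, hW, hxW, hWV⟩ := TopologicalSpace.Opens.isBasis_iff_nbhd.mp X'.isBasis_affineOpens
    (show x' ∈ f ⁻¹ᵁ V.1 by change f x' ∈ V.1; rwa [hx'])
  have hφ₁ : (f.appLE V.1 W hWV).hom.Flat :=
    HasRingHomProperty.appLE @Flat f ‹_› V ⟨W, hW⟩ hWV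
  have hφ₂ : (f.appLE V.1 W hWV).hom.FinitePresentation :=
    HasRingHomProperty.appLE @LocallyOfFinitePresentation f ‹_› V ⟨W, hW⟩ hWV
  have hcomp := HasRingHomProperty.appLE P (f ≫ g) h U ⟨W, hW⟩
    (hWV.trans ((TopologicalSpace.Opens.map f.base).map (homOfLE e)).le)
  rw [← Scheme.Hom.appLE_comp_appLE f g U V W e hWV, CommRingCat.hom_comp] at hcomp
  obtain ⟨b, hb, hQb⟩ := exists_localization_of_flat_fp
    hl.StableUnderCompositionWithLocalizationAwayTarget hQ _ _ hφ₁ hφ₂ hcomp
    (hW.primeIdealOf ⟨x', hxW⟩)
  rw [IsAffineOpen.comap_primeIdealOf_appLE V.1 V.2 W hW hWV hxW] at hb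
  have hp : V.2.primeIdealOf ⟨f x', hWV hxW⟩ = p := by
    apply V.2.fromSpec.isOpenEmbedding.injective
    rw [V.2.fromSpec_primeIdealOf]
    exact hx'
  rw [hp] at hb
  exact hb (hle (Ideal.subset_span hQb))

/-- The base change of a faithfully flat map of algebras. -/
theorem faithfullyFlat_lTensor_map (R A B K : Type u) [CommRing R] [CommRing A] [CommRing B]
    [CommRing K] [Algebra R A] [Algebra A B] [Algebra R B] [IsScalarTower R A B] [Algebra R K]
    [Module.FaithfullyFlat A B] :
    (Algebra.TensorProduct.map (AlgHom.id R K) (IsScalarTower.toAlgHom R A B)).toRingHom.FaithfullyFlat := by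
  let e₁ : (A ⊗[R] K) ⊗[A] B ≃+* B ⊗[R] K :=
    (Algebra.TensorProduct.comm A (A ⊗[R] K) B).toRingEquiv.trans
      (Algebra.TensorProduct.cancelBaseChange R A A B K).toRingEquiv
  let c₁ : K ⊗[R] A ≃+* A ⊗[R] K := (Algebra.TensorProduct.comm R K A).toRingEquiv
  let c₂ : B ⊗[R] K ≃+* K ⊗[R] B := (Algebra.TensorProduct.comm R B K).toRingEquiv
  have h : (algebraMap (A ⊗[R] K) ((A ⊗[R] K) ⊗[A] B)).FaithfullyFlat :=
    RingHom.faithfullyFlat_algebraMap_iff.2 inferInstance
  have e : (Algebra.TensorProduct.map (AlgHom.id R K) (IsScalarTower.toAlgHom R A B)).toRingHom =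
      (c₂.toRingHom.comp e₁.toRingHom).comp
        ((algebraMap (A ⊗[R] K) ((A ⊗[R] K) ⊗[A] B)).comp c₁.toRingHom) := by
    apply RingHom.ext
    intro z
    induction z with
    | zero => simp
    | tmul x a =>
      simp [c₁, c₂, e₁, Algebra.TensorProduct.algebraMap_apply, Algebra.smul_def]
    | add a b ha hb => simp only [map_add, ha, hb]
  rw [e]
  exact (RingHom.FaithfullyFlat.stableUnderComposition _ _
    (RingHom.FaithfullyFlat.stableUnderComposition _ _
      (RingHom.FaithfullyFlat.of_bijective (f := c₁.toRingHom) c₁.bijective) h)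
    (RingHom.FaithfullyFlat.stableUnderComposition _ _
      (RingHom.FaithfullyFlat.of_bijective (f := e₁.toRingHom) e₁.bijective)
      (RingHom.FaithfullyFlat.of_bijective (f := c₂.toRingHom) c₂.bijective)))

theorem isGeometricallyReduced_of_isAlgClosed (K L : Type u) [Field K] [IsAlgClosed K] [Field L]
    [Algebra K L] : Algebra.IsGeometricallyReduced K L := by
  rw [Algebra.isGeometricallyReduced_field_iff]
  let e : K ≃ₐ[K] AlgebraicClosure K :=
    AlgEquiv.ofBijective (Algebra.ofId K _) (IsAlgClosed.algebraMap_bijective_of_isIntegral)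
  exact isReduced_of_injective _
    ((Algebra.TensorProduct.congr e.symm (AlgEquiv.refl : L ≃ₐ[K] L)).trans
      (Algebra.TensorProduct.lid K L)).injective

/-- Smoothness over an algebraically closed field descends along faithfully flat maps. -/
theorem smooth_of_faithfullyFlat_of_isAlgClosed (K A B : Type u) [Field K] [IsAlgClosed K]
    [CommRing A] [CommRing B] [Algebra K A] [Algebra A B] [Algebra K B] [IsScalarTower K A B]
    [Algebra.FiniteType K A] [Module.FaithfullyFlat A B] [Algebra.Smooth K B] :
    Algebra.Smooth K A := by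
  have : IsRegularRing B := Groth.Agent.H02CA.isRegularRing_of_smooth K B
  have : IsRegularRing A := Groth.Agent.S9406.result A B
  have : Algebra.FinitePresentation K A := Algebra.FinitePresentation.of_finiteType.1 inferInstance
  refine ⟨Algebra.smoothLocus_eq_univ_iff.mp (Set.eq_univ_iff_forall.mpr fun q => ?_), this⟩
  have := isGeometricallyReduced_of_isAlgClosed K q.asIdeal.ResidueField
  exact (Groth.Agent.S9442.result K A q.asIdeal).2
    ((isRegularRing_iff.mp (inferInstance : IsRegularRing A)) q.asIdeal)

/-- Smoothness over a field descends along faithfully flat maps. -/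
theorem smooth_of_faithfullyFlat_of_field (k A B : Type u) [Field k]
    [CommRing A] [CommRing B] [Algebra k A] [Algebra A B] [Algebra k B] [IsScalarTower k A B]
    [Algebra.FiniteType k A] [Module.FaithfullyFlat A B] [Algebra.Smooth k B] :
    Algebra.Smooth k A := by
  let K := AlgebraicClosure k
  let f := Algebra.TensorProduct.map (AlgHom.id K K) (IsScalarTower.toAlgHom k A B)
  let : Algebra (K ⊗[k] A) (K ⊗[k] B) := f.toRingHom.toAlgebra
  have : IsScalarTower K (K ⊗[k] A) (K ⊗[k] B) := .of_algebraMap_eq fun x => (f.commutes x).symm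
  have : Module.FaithfullyFlat (K ⊗[k] A) (K ⊗[k] B) := by
    rw [← RingHom.faithfullyFlat_algebraMap_iff]
    exact faithfullyFlat_lTensor_map k A B K
  have := smooth_of_faithfullyFlat_of_isAlgClosed K (K ⊗[k] A) (K ⊗[k] B)
  exact Algebra.Smooth.of_smooth_tensorProduct_of_faithfullyFlat K

/-- Smoothness descends along faithfully flat finitely presented maps to the source. -/
theorem smooth_of_faithfullyFlat {R A B : Type u} [CommRing R] [CommRing A] [CommRing B]
    [Algebra R A] [Algebra A B] [Algebra R B] [IsScalarTower R A B]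
    [Algebra.FinitePresentation A B] [Module.FaithfullyFlat A B] [Algebra.Smooth R B] :
    Algebra.Smooth R A := by
  have : Algebra.FinitePresentation R A := finitePresentation_of_faithfullyFlat (B := B)
  have : Module.Flat R B := RingHom.flat_algebraMap_iff.1 (RingHom.Smooth.flat
    (RingHom.smooth_algebraMap.2 inferInstance))
  have : Module.Flat R A := Groth.Agent.H13Desc.algebra_flat_of_refinement (A := R)
    (IsScalarTower.toAlgHom R A B) (AlgHom.id R B) fun _ => rfl
  refine Algebra.Smooth.of_formallySmooth_fiber fun p _ => ?_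
  let f := Algebra.TensorProduct.map (AlgHom.id p.ResidueField p.ResidueField)
    (IsScalarTower.toAlgHom R A B)
  let : Algebra (p.Fiber A) (p.Fiber B) := f.toRingHom.toAlgebra
  have : IsScalarTower p.ResidueField (p.Fiber A) (p.Fiber B) :=
    .of_algebraMap_eq fun x => (f.commutes x).symm
  have : Module.FaithfullyFlat (p.Fiber A) (p.Fiber B) := by
    rw [← RingHom.faithfullyFlat_algebraMap_iff]
    exact faithfullyFlat_lTensor_map R A B p.ResidueField
  exact (smooth_of_faithfullyFlat_of_field p.ResidueField (p.Fiber A) (p.Fiber B)).formallySmooth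

theorem formallyUnramified_of_faithfullyFlat_of_field (k A B : Type u) [Field k]
    [CommRing A] [CommRing B] [Algebra k A] [Algebra A B] [Algebra k B] [IsScalarTower k A B]
    [Module.FaithfullyFlat A B] [Algebra.Etale k B] :
    Algebra.FormallyUnramified k A := by
  let K := AlgebraicClosure k
  let f := Algebra.TensorProduct.map (AlgHom.id K K) (IsScalarTower.toAlgHom k A B)
  have hf : Function.Injective f := (faithfullyFlat_lTensor_map k A B K).injective
  have := Algebra.FormallyUnramified.finite_of_free K (K ⊗[k] B)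
  have := Algebra.FormallyUnramified.isReduced_of_field K (K ⊗[k] B)
  have : Module.Finite K (K ⊗[k] A) := Module.Finite.of_injective f.toLinearMap hf
  have : IsReduced (K ⊗[k] A) := isReduced_of_injective f hf
  have : IsArtinianRing (K ⊗[k] A) := .of_finite K _
  have (I : MaximalSpectrum (K ⊗[k] A)) :
      Algebra.FormallyEtale K ((K ⊗[k] A) ⧸ I.asIdeal) := by
    let := Ideal.Quotient.field I.asIdeal
    exact Algebra.FormallyEtale.of_isSeparable K _
  have : Algebra.FormallyEtale K (K ⊗[k] A) :=
    .of_equiv ((IsArtinianRing.equivPi (K ⊗[k] A)).restrictScalars K).symm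
  exact Algebra.FormallyUnramified.of_formallyUnramified_tensorProduct_of_faithfullyFlat K

attribute [local instance] Algebra.TensorProduct.rightAlgebra in
/-- Etale descends along faithfully flat finitely presented maps to the source. -/
theorem etale_of_faithfullyFlat {R A B : Type u} [CommRing R] [CommRing A] [CommRing B]
    [Algebra R A] [Algebra A B] [Algebra R B] [IsScalarTower R A B]
    [Algebra.FinitePresentation A B] [Module.FaithfullyFlat A B] [Algebra.Etale R B] :
    Algebra.Etale R A := by
  have hs : Algebra.Smooth R A := smooth_of_faithfullyFlat (B := B)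
  have : Algebra.FormallyUnramified R A := by
    rw [Algebra.formallyUnramified_iff_forall]
    intro q
    let p := q.asIdeal.under R
    let f := Algebra.TensorProduct.map (AlgHom.id p.ResidueField p.ResidueField)
      (IsScalarTower.toAlgHom R A B)
    let : Algebra (p.Fiber A) (p.Fiber B) := f.toRingHom.toAlgebra
    have : IsScalarTower p.ResidueField (p.Fiber A) (p.Fiber B) :=
      .of_algebraMap_eq fun x => (f.commutes x).symm
    have : Module.FaithfullyFlat (p.Fiber A) (p.Fiber B) := by
      rw [← RingHom.faithfullyFlat_algebraMap_iff]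
      exact faithfullyFlat_lTensor_map R A B p.ResidueField
    have := formallyUnramified_of_faithfullyFlat_of_field p.ResidueField (p.Fiber A) (p.Fiber B)
    obtain ⟨q₁, hq₁⟩ := Groth.Agent.H12AlgSp.EtaleSource.exists_prime_tensor (C₀ := p.ResidueField)
      q (B₀ := R) ⟨⟨⊥, Ideal.isPrime_bot⟩, PrimeSpectrum.ext (Ideal.ker_algebraMap_residueField p)⟩
    let c : (p.Fiber A) ≃+* A ⊗[R] p.ResidueField :=
      (Algebra.TensorProduct.comm R p.ResidueField A).toRingEquiv
    let q' : PrimeSpectrum (p.Fiber A) := q₁.comap c.toRingHom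
    have : q'.asIdeal.LiesOver q.asIdeal := ⟨by
      ext a
      exact (SetLike.ext_iff.1 (congrArg PrimeSpectrum.asIdeal hq₁) a).symm.trans Iff.rfl⟩
    have : Algebra.IsUnramifiedAt p.ResidueField q'.asIdeal :=
      (Algebra.formallyUnramified_iff_forall.1 inferInstance) q'
    exact Groth.Agent.H17.SmoothPoint.isUnramifiedAt_of_baseChange (R' := p.ResidueField)
      q.asIdeal q'.asIdeal
  exact Algebra.Etale.of_formallyUnramified_of_flat

theorem smooth_of_fppf_covering {X Y : Scheme.{u}} (g : X ⟶ Y)
    (hcov : ∀ x : X, ∃ (X' : Scheme.{u}) (f : X' ⟶ X),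
      Flat f ∧ LocallyOfFinitePresentation f ∧ x ∈ Set.range f ∧ Smooth (f ≫ g)) : Smooth g :=
  of_fppf_covering_simple @Smooth
    (fun {A B C} _ _ _ _ _ _ _ _ _ h => by
      beta_reduce at h ⊢
      rw [RingHom.smooth_algebraMap] at h ⊢
      exact smooth_of_faithfullyFlat (B := C)) g hcov

theorem etale_of_fppf_covering {X Y : Scheme.{u}} (g : X ⟶ Y)
    (hcov : ∀ x : X, ∃ (X' : Scheme.{u}) (f : X' ⟶ X),
      Flat f ∧ LocallyOfFinitePresentation f ∧ x ∈ Set.range f ∧ Etale (f ≫ g)) : Etale g :=
  of_fppf_covering_simple @Etale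
    (fun {A B C} _ _ _ _ _ _ _ _ _ h => by
      beta_reduce at h ⊢
      rw [RingHom.etale_algebraMap] at h ⊢
      exact etale_of_faithfullyFlat (B := C)) g hcov

end Groth.Agent.H13Flat
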