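import Groth.Agent.H13Flat.Algebra
import Mathlib.AlgebraicGeometry.Morphisms.FinitePresentation
import Mathlib.AlgebraicGeometry.Morphisms.Flat

/-!
Locally finite type and locally finitely presented descend along flat, locally finitely presented
coverings of the source.
-/

universe u

open CategoryTheory AlgebraicGeometry TensorProduct

namespace Groth.Agent.H13Flat

/-- A property of ring maps descends along refinements: if `B → C → D` is faithfully flat and
finitely presented and `A → C` has the property then so has `A → B`. -/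
def SourceDescends (Q : ∀ {R S : Type u} [CommRing R] [CommRing S], (R →+* S) → Prop) : Prop :=
  ∀ {A B C D : Type u} [CommRing A] [CommRing B] [CommRing C] [CommRing D] (φ : A →+* B)
    (g : B →+* C) (h : C →+* D), (h.comp g).FinitePresentation → (h.comp g).FaithfullyFlat →
    Q (g.comp φ) → Q φ

attribute [local instance] Algebra.TensorProduct.rightAlgebra in
theorem exists_localization_of_refinement
    {Q : ∀ {R S : Type u} [CommRing R] [CommRing S], (R →+* S) → Prop}
    (hloc : RingHom.StableUnderCompositionWithLocalizationAwayTarget Q)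
    (hQ : SourceDescends Q) {A B T W : Type u} [CommRing A] [CommRing B] [CommRing T] [CommRing W]
    (φ : A →+* B) (g : B →+* T) (h : T →+* W) (hfl : (h.comp g).Flat)
    (hfp : (h.comp g).FinitePresentation) (hg : Q (g.comp φ))
    (q : PrimeSpectrum W) :
    ∃ b : B, b ∉ (q.comap (h.comp g)).asIdeal ∧
      Q ((algebraMap B (Localization.Away b)).comp φ) := by
  let := g.toAlgebra
  let := h.toAlgebra
  let := (h.comp g).toAlgebra
  have : IsScalarTower B T W := .of_algebraMap_eq' rfl
  have : Module.Flat B W := hfl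
  have : Algebra.FinitePresentation B W := hfp
  have hopen : IsOpen (Set.range (PrimeSpectrum.comap (algebraMap B W))) :=
    (PrimeSpectrum.isOpenMap_comap_of_hasGoingDown_of_finitePresentation).isOpen_range
  have hmem : q.comap (h.comp g) ∈ Set.range (PrimeSpectrum.comap (algebraMap B W)) := ⟨q, rfl⟩
  obtain ⟨_, ⟨_, ⟨b, rfl⟩, rfl⟩, hb, hbsub⟩ :=
    PrimeSpectrum.isBasis_basic_opens.exists_subset_of_mem_open hmem hopen
  refine ⟨b, hb, ?_⟩
  let L := Localization.Away b
  let C := L ⊗[B] T
  let D := L ⊗[B] W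
  have : Module.FaithfullyFlat L D := by
    refine Module.FaithfullyFlat.of_comap_surjective fun p =>
      Groth.Agent.H12AlgSp.EtaleSource.exists_prime_tensor p (hbsub ?_)
    change b ∉ Ideal.comap _ p.asIdeal
    intro hp
    exact p.isPrime.ne_top' (Ideal.eq_top_of_isUnit_mem _ hp
      (IsLocalization.Away.algebraMap_isUnit b))
  have h2 : Q ((algebraMap T C).comp (g.comp φ)) := by
    have : IsLocalization.Away (algebraMap B T b) C := by
      change IsLocalization (Submonoid.powers (algebraMap B T b)) C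
      rw [← Algebra.algebraMapSubmonoid_powers]
      exact IsLocalization.tensorRight (S := T) L (Submonoid.powers b)
    exact hloc C (algebraMap B T b) _ hg
  let η : C →ₐ[L] D := Algebra.TensorProduct.map (AlgHom.id L L) (IsScalarTower.toAlgHom B T W)
  have e1 : η.toRingHom.comp (algebraMap L C) = algebraMap L D := η.comp_algebraMap
  have e2 : (algebraMap L C).comp ((algebraMap B L).comp φ) = (algebraMap T C).comp (g.comp φ) := by
    rw [← RingHom.comp_assoc, ← RingHom.comp_assoc, ← IsScalarTower.algebraMap_eq B L C,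
      ← RingHom.algebraMap_toAlgebra g, ← IsScalarTower.algebraMap_eq B T C]
  refine hQ ((algebraMap B L).comp φ) (algebraMap L C) η.toRingHom ?_ ?_ ?_
  · rw [e1, RingHom.finitePresentation_algebraMap]; infer_instance
  · rw [e1, RingHom.faithfullyFlat_algebraMap_iff]; infer_instance
  · rw [e2]; exact h2

/-- A property induced by a ring property descends along refinements of flat, locally finitely
presented covers. -/
theorem of_fppf_refinement (P : MorphismProperty Scheme.{u})
    {Q : ∀ {R S : Type u} [CommRing R] [CommRing S], (R →+* S) → Prop} [HasRingHomProperty P Q]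
    (hQ : SourceDescends Q) {X Y : Scheme.{u}} (g : X ⟶ Y)
    (hcov : ∀ x : X, ∃ (T W : Scheme.{u}) (l : W ⟶ T) (t : T ⟶ X),
      Flat (l ≫ t) ∧ LocallyOfFinitePresentation (l ≫ t) ∧ x ∈ Set.range (l ≫ t) ∧ P (t ≫ g)) :
    P g := by
  have hl := HasRingHomProperty.isLocal_ringHomProperty P
  rw [HasRingHomProperty.iff_appLE (P := P)]
  intro U V e
  set ψ := (g.appLE U V e).hom
  let s : Set Γ(X, V.1) := { b | Q ((algebraMap _ (Localization.Away b)).comp ψ) }
  refine hl.ofLocalizationSpanTarget ψ s ?_ (fun r => r.2)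
  by_contra hne
  obtain ⟨m, hm, hle⟩ := Ideal.exists_le_maximal _ hne
  let p : PrimeSpectrum Γ(X, V.1) := ⟨m, hm.isPrime⟩
  let x : X := V.2.fromSpec p
  have hxV : x ∈ V.1 := V.2.range_fromSpec.le ⟨p, rfl⟩
  obtain ⟨T, W, l, t, hf₁, hf₂, ⟨w, hw⟩, h⟩ := hcov x
  obtain ⟨T', hT', hwT, hTV⟩ := TopologicalSpace.Opens.isBasis_iff_nbhd.mp T.isBasis_affineOpens
    (show l w ∈ t ⁻¹ᵁ V.1 by
      change t (l w) ∈ V.1
      rw [← Scheme.Hom.comp_apply, hw]
      exact hxV)
  obtain ⟨W', hW, hxW, hWT⟩ := TopologicalSpace.Opens.isBasis_iff_nbhd.mp W.isBasis_affineOpens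
    (show w ∈ l ⁻¹ᵁ T' from hwT)
  have hWV : W' ≤ (l ≫ t) ⁻¹ᵁ V.1 :=
    hWT.trans ((TopologicalSpace.Opens.map l.base).map (homOfLE hTV)).le
  have hφ₁ : ((l ≫ t).appLE V.1 W' hWV).hom.Flat :=
    HasRingHomProperty.appLE @Flat (l ≫ t) ‹_› V ⟨W', hW⟩ hWV
  have hφ₂ : ((l ≫ t).appLE V.1 W' hWV).hom.FinitePresentation :=
    HasRingHomProperty.appLE @LocallyOfFinitePresentation (l ≫ t) ‹_› V ⟨W', hW⟩ hWV
  rw [← Scheme.Hom.appLE_comp_appLE l t V T' W' hTV hWT, CommRingCat.hom_comp] at hφ₁ hφ₂
  have hcomp := HasRingHomProperty.appLE P (t ≫ g) h U ⟨T', hT'⟩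
    (hTV.trans ((TopologicalSpace.Opens.map t.base).map (homOfLE e)).le)
  rw [← Scheme.Hom.appLE_comp_appLE t g U V T' e hTV, CommRingCat.hom_comp] at hcomp
  obtain ⟨b, hb, hQb⟩ := exists_localization_of_refinement
    hl.StableUnderCompositionWithLocalizationAwayTarget hQ _ _ _ hφ₁ hφ₂ hcomp
    (hW.primeIdealOf ⟨w, hxW⟩)
  rw [← CommRingCat.hom_comp, Scheme.Hom.appLE_comp_appLE l t V T' W' hTV hWT,
    IsAffineOpen.comap_primeIdealOf_appLE V.1 V.2 W' hW hWV hxW] at hb
  have hp : V.2.primeIdealOf ⟨(l ≫ t) w, hWV hxW⟩ = p := by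
    apply V.2.fromSpec.isOpenEmbedding.injective
    rw [V.2.fromSpec_primeIdealOf]
    exact hw
  rw [hp] at hb
  exact hb (hle (Ideal.subset_span hQb))

/-- A property induced by a ring property descends along flat, locally finitely presented covers. -/
theorem of_fppf_covering (P : MorphismProperty Scheme.{u})
    {Q : ∀ {R S : Type u} [CommRing R] [CommRing S], (R →+* S) → Prop} [HasRingHomProperty P Q]
    (hQ : SourceDescends Q) {X Y : Scheme.{u}} (g : X ⟶ Y)
    (hcov : ∀ x : X, ∃ (X' : Scheme.{u}) (f : X' ⟶ X),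
      Flat f ∧ LocallyOfFinitePresentation f ∧ x ∈ Set.range f ∧ P (f ≫ g)) :
    P g :=
  of_fppf_refinement P hQ g fun x => by
    obtain ⟨X', f, h1, h2, h3, h4⟩ := hcov x
    exact ⟨X', X', 𝟙 X', f, by rwa [Category.id_comp], by rwa [Category.id_comp],
      by rwa [Category.id_comp], h4⟩

theorem sourceDescends_finiteType : SourceDescends RingHom.FiniteType := by
  intro A B C D _ _ _ _ φ g h hfp hff hC
  let := φ.toAlgebra
  let := (g.comp φ).toAlgebra
  let := (h.comp g).toAlgebra
  let := ((h.comp g).comp φ).toAlgebra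
  have : IsScalarTower A B D := .of_algebraMap_eq' rfl
  have : Algebra.FinitePresentation B D := hfp
  have : Module.FaithfullyFlat B D := hff
  have : Algebra.FiniteType A C := hC
  exact finiteType_of_refinement (R := A) (A := B) (C := C) (D := D)
    { g with commutes' := fun _ => rfl } { h with commutes' := fun _ => rfl } fun _ => rfl

theorem sourceDescends_finitePresentation : SourceDescends RingHom.FinitePresentation := by
  intro A B C D _ _ _ _ φ g h hfp hff hC
  let := φ.toAlgebra
  let := (g.comp φ).toAlgebra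
  let := (h.comp g).toAlgebra
  let := ((h.comp g).comp φ).toAlgebra
  have : IsScalarTower A B D := .of_algebraMap_eq' rfl
  have : Algebra.FinitePresentation B D := hfp
  have : Module.FaithfullyFlat B D := hff
  have : Algebra.FinitePresentation A C := hC
  exact finitePresentation_of_refinement (R := A) (A := B) (C := C) (D := D)
    { g with commutes' := fun _ => rfl } { h with commutes' := fun _ => rfl } fun _ => rfl

theorem locallyOfFiniteType_of_fppf_covering {X Y : Scheme.{u}} (g : X ⟶ Y)
    (hcov : ∀ x : X, ∃ (X' : Scheme.{u}) (f : X' ⟶ X),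
      Flat f ∧ LocallyOfFinitePresentation f ∧ x ∈ Set.range f ∧ LocallyOfFiniteType (f ≫ g)) :
    LocallyOfFiniteType g :=
  of_fppf_covering @LocallyOfFiniteType sourceDescends_finiteType g hcov

theorem locallyOfFinitePresentation_of_fppf_covering {X Y : Scheme.{u}} (g : X ⟶ Y)
    (hcov : ∀ x : X, ∃ (X' : Scheme.{u}) (f : X' ⟶ X),
      Flat f ∧ LocallyOfFinitePresentation f ∧ x ∈ Set.range f ∧
        LocallyOfFinitePresentation (f ≫ g)) :
    LocallyOfFinitePresentation g :=
  of_fppf_covering @LocallyOfFinitePresentation sourceDescends_finitePresentation g hcov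

theorem lfp_of_flat_surjective {X' X Y : Scheme.{u}} (f : X' ⟶ X) (g : X ⟶ Y) [Flat f]
    [LocallyOfFinitePresentation f] [Surjective f] [h : LocallyOfFinitePresentation (f ≫ g)] :
    LocallyOfFinitePresentation g :=
  locallyOfFinitePresentation_of_fppf_covering g fun x =>
    ⟨X', f, ‹_›, ‹_›, f.surjective x, h⟩

theorem lft_of_flat_surjective {X' X Y : Scheme.{u}} (f : X' ⟶ X) (g : X ⟶ Y) [Flat f]
    [LocallyOfFinitePresentation f] [Surjective f] [h : LocallyOfFiniteType (f ≫ g)] :
    LocallyOfFiniteType g :=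
  locallyOfFiniteType_of_fppf_covering g fun x => ⟨X', f, ‹_›, ‹_›, f.surjective x, h⟩

end Groth.Agent.H13Flat
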