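import Groth.Agent.H13Flat.Generic
import Mathlib.RingTheory.Polynomial.Basic
import Mathlib.RingTheory.Filtration

/-!
Flatness of `R[x]/N` in the form `N ⊓ K[x] ≤ K[x] * N` for all ideals `K`:
local criterion along a principal ideal, and the consequence of generic flatness.
-/

universe u

open MvPolynomial

namespace Groth.Agent.H13Flat

variable {R : Type u} [CommRing R] {n : ℕ}

/-- The local criterion of flatness along `(a)`, away from the points where `a` is invertible. -/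
theorem inf_le_mul_of_pow_mem (N : Ideal (MvPolynomial (Fin n) R)) (I : Ideal R) (a : R)
    (H : ∀ K : Ideal R, I ⊔ Ideal.span {a} ≤ K → N ⊓ K.map C ≤ K.map C * N) :
    ∀ (m : ℕ) (K : Ideal R), I ≤ K → a ^ m ∈ K → N ⊓ K.map C ≤ K.map C * N := by
  intro m
  induction m with
  | zero =>
    intro K _ h1 x hx
    rw [(Ideal.eq_top_iff_one K).2 (by simpa using h1), Ideal.map_top, Ideal.top_mul]
    exact hx.1
  | succ m ih =>
    intro K hIK hm x hx
    have := H (K ⊔ Ideal.span {a}) (sup_le_sup_right hIK _) ⟨hx.1, Ideal.map_mono le_sup_left hx.2⟩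
    rw [Ideal.map_sup, Ideal.map_span, Set.image_singleton, Ideal.sup_mul, Submodule.mem_sup]
      at this
    obtain ⟨u, hu, v, hv, rfl⟩ := this
    obtain ⟨y, hy, rfl⟩ := Ideal.mem_span_singleton_mul.1 hv
    refine add_mem hu ?_
    have hay : C a * y ∈ K.map C := by
      simpa using sub_mem hx.2 (Ideal.mul_le_left (I := K.map C) (J := N) hu)
    let K' : Ideal R := Submodule.comap (LinearMap.lsmul R R a) K
    have hy' : y ∈ K'.map C * N := by
      refine ih K' (fun z hz => K.mul_mem_left _ (hIK hz)) ?_ ⟨hy, mem_map_C_iff.2 fun μ => ?_⟩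
      · change a * a ^ m ∈ K
        rwa [← pow_succ']
      · have := mem_map_C_iff.1 hay μ
        rwa [coeff_C_mul] at this
    have hle : Ideal.span {C a} * K'.map C ≤ (K.map C : Ideal (MvPolynomial (Fin n) R)) := by
      rw [← Set.image_singleton, ← Ideal.map_span, ← Ideal.map_mul]
      refine Ideal.map_mono (Ideal.mul_le.2 fun r hr s hs => ?_)
      obtain ⟨b, rfl⟩ := Ideal.mem_span_singleton'.1 hr
      rw [mul_assoc]
      exact K.mul_mem_left _ hs
    have := Ideal.mul_mem_mul (Ideal.mem_span_singleton_self (C a)) hy'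
    rw [← mul_assoc] at this
    exact Ideal.mul_mono hle le_rfl this

/-- Flatness relative to `I` from flatness relative to `I + (a)` and flatness after inverting `a`. -/
theorem inf_le_mul_of_away [IsNoetherianRing R] (N : Ideal (MvPolynomial (Fin n) R)) (I : Ideal R)
    (a : R) (H₁ : ∀ K : Ideal R, I ⊔ Ideal.span {a} ≤ K → N ⊓ K.map C ≤ K.map C * N)
    (H₂ : ∀ K : Ideal R, I ≤ K → ∀ x ∈ N ⊓ K.map C, ∃ k : ℕ, C (a ^ k) * x ∈ K.map C * N)
    (K : Ideal R) (hIK : I ≤ K) : N ⊓ K.map C ≤ K.map C * N := by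
  intro x hx
  by_contra hxn
  let Ann : Ideal (MvPolynomial (Fin n) R) :=
    Submodule.comap (LinearMap.lsmul _ (MvPolynomial (Fin n) R) x) (K.map C * N)
  have hAnn : Ann ≠ ⊤ := fun ht => hxn (by
    have : (1 : MvPolynomial (Fin n) R) ∈ Ann := ht ▸ trivial
    simpa [Ann] using this)
  obtain ⟨q, hq, hle⟩ := Ideal.exists_le_maximal Ann hAnn
  by_cases haq : C a ∈ q
  · have hinf : Ideal.Quotient.mk (K.map C * N) x ∈
        (⨅ i : ℕ, Ideal.span {(C a : MvPolynomial (Fin n) R)} ^ i • ⊤ :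
          Submodule (MvPolynomial (Fin n) R) (MvPolynomial (Fin n) R ⧸ K.map C * N)) := by
      rw [Submodule.mem_iInf]
      intro i
      have := inf_le_mul_of_pow_mem N I a H₁ i (K ⊔ Ideal.span {a ^ i}) (hIK.trans le_sup_left)
        (Submodule.mem_sup_right (Ideal.mem_span_singleton_self _))
        ⟨hx.1, Ideal.map_mono le_sup_left hx.2⟩
      rw [Ideal.map_sup, Ideal.map_span, Set.image_singleton, Ideal.sup_mul, Submodule.mem_sup]
        at this
      obtain ⟨u, hu, v, hv, rfl⟩ := this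
      obtain ⟨y, -, rfl⟩ := Ideal.mem_span_singleton_mul.1 hv
      rw [map_add, Ideal.Quotient.eq_zero_iff_mem.2 hu, zero_add, Ideal.span_singleton_pow, ← map_pow]
      exact Submodule.smul_mem_smul (N := (⊤ : Submodule (MvPolynomial (Fin n) R)
        (MvPolynomial (Fin n) R ⧸ K.map C * N))) (Ideal.mem_span_singleton_self _)
        (n := Ideal.Quotient.mk (K.map C * N) y) trivial
    obtain ⟨⟨r, hr⟩, hrx⟩ := (Ideal.mem_iInf_smul_pow_eq_bot_iff (Ideal.span {(C a : MvPolynomial (Fin n) R)})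
      (Ideal.Quotient.mk (K.map C * N) x)).1 hinf
    refine hq.ne_top ((Ideal.eq_top_iff_one q).2 ?_)
    have h1 : r - 1 ∈ q := hle (by
      change x • (r - 1) ∈ K.map C * N
      rw [smul_eq_mul, ← Ideal.Quotient.eq_zero_iff_mem, map_mul, map_sub, map_one, mul_sub,
        mul_one, sub_eq_zero, mul_comm (Ideal.Quotient.mk _ x)]
      exact (Algebra.smul_def r (Ideal.Quotient.mk (K.map C * N) x)).symm.trans hrx)
    have hrq : r ∈ q := ((Ideal.span_singleton_le_iff_mem q).2 haq) hr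
    simpa using sub_mem hrq h1
  · obtain ⟨k, hk⟩ := H₂ K hIK x hx
    refine haq (hq.isPrime.mem_of_pow_mem k (hle ?_))
    change x • C a ^ k ∈ K.map C * N
    rw [map_pow] at hk
    rw [smul_eq_mul, mul_comm x]
    exact hk

theorem away_of_mul_mem (N : Ideal (MvPolynomial (Fin n) R)) (I : Ideal R) (a b : R)
    (hab : a * b ∈ I) (H : ∀ K : Ideal R, I ⊔ Ideal.span {b} ≤ K → N ⊓ K.map C ≤ K.map C * N)
    (K : Ideal R) (hK : I ≤ K) (x : MvPolynomial (Fin n) R) (hx : x ∈ N ⊓ K.map C) :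
    C a * x ∈ K.map C * N := by
  have := Ideal.mul_mem_mul (Ideal.mem_span_singleton_self (C a))
    (H _ (sup_le_sup_right hK (Ideal.span {b})) ⟨hx.1, Ideal.map_mono le_sup_left hx.2⟩)
  rw [← mul_assoc] at this
  refine Ideal.mul_mono ?_ le_rfl this
  rw [← Set.image_singleton, ← Ideal.map_span, ← Ideal.map_mul]
  refine Ideal.map_mono ?_
  rw [Ideal.mul_sup, Ideal.span_singleton_mul_span_singleton]
  exact sup_le Ideal.mul_le_right ((Ideal.span_singleton_le_iff_mem K).2 (hK hab))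

/-- Generic flatness of `R[x]/N` modulo a prime `I`, in elementwise form. -/
theorem exists_generic_correction [IsNoetherianRing R] (I : Ideal R) [I.IsPrime]
    (N : Ideal (MvPolynomial (Fin n) R)) :
    ∃ a : R, a ∉ I ∧ ∀ {m : ℕ} (q : Fin m → MvPolynomial (Fin n) R), (∀ i, q i ∈ N) →
      ∃ (k : ℕ) (S : Finset (Fin n →₀ ℕ)) (θ : (Fin n →₀ ℕ) → MvPolynomial (Fin n) R),
        (∀ μ, θ μ ∈ N) ∧
          ∀ i, C (a ^ k) * q i - ∑ μ ∈ S, C (coeff μ (q i)) * θ μ ∈ N ⊓ I.map C := by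
  classical
  have : IsNoetherianRing (R ⧸ I) :=
    isNoetherianRing_of_surjective _ _ (Ideal.Quotient.mk I) Ideal.Quotient.mk_surjective
  let π : MvPolynomial (Fin n) R →+* MvPolynomial (Fin n) (R ⧸ I) :=
    MvPolynomial.map (Ideal.Quotient.mk I)
  have hπ : Function.Surjective π := MvPolynomial.map_surjective _ Ideal.Quotient.mk_surjective
  let Q := N.map π
  obtain ⟨f, hf, hk⟩ := genericFlat_of_finiteType (D := R ⧸ I) (MvPolynomial (Fin n) (R ⧸ I))
    (MvPolynomial (Fin n) (R ⧸ I) ⧸ Q)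
  obtain ⟨a, rfl⟩ := Ideal.Quotient.mk_surjective f
  refine ⟨a, fun ha => hf (Ideal.Quotient.eq_zero_iff_mem.2 ha), fun {m} q hq => ?_⟩
  let S : Finset (Fin n →₀ ℕ) := Finset.univ.biUnion fun i => (q i).support
  let qb : Fin m → (↥S →₀ R ⧸ I) := fun i =>
    Finsupp.equivFunOnFinite.symm fun μ => Ideal.Quotient.mk I (coeff μ.1 (q i))
  let U : (↥S →₀ R ⧸ I) →ₗ[R ⧸ I] MvPolynomial (Fin n) (R ⧸ I) :=
    Finsupp.linearCombination _ fun μ : S => monomial μ.1 1
  let mkQ : MvPolynomial (Fin n) (R ⧸ I) →ₗ[R ⧸ I] MvPolynomial (Fin n) (R ⧸ I) ⧸ Q :=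
    (Ideal.Quotient.mkₐ (R ⧸ I) Q).toLinearMap
  have hU : ∀ i, U (qb i) = π (q i) := by
    intro i
    rw [Finsupp.linearCombination_apply, Finsupp.sum_fintype _ _ (fun _ => by simp)]
    simp only [qb, Finsupp.coe_equivFunOnFinite_symm, smul_monomial, smul_eq_mul, mul_one]
    conv_rhs => rw [(q i).as_sum, map_sum]
    simp only [π, MvPolynomial.map_monomial]
    rw [Finset.sum_coe_sort S fun μ => monomial μ (Ideal.Quotient.mk I (coeff μ (q i)))]
    refine (Finset.sum_subset (fun μ hμ => Finset.mem_biUnion.2 ⟨i, Finset.mem_univ i, hμ⟩) ?_).symm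
    intro μ _ hμ
    rw [notMem_support_iff.1 hμ, map_zero, monomial_zero]
  have hq0 : ∀ i, (mkQ ∘ₗ U) (qb i) = 0 := fun i => by
    rw [LinearMap.comp_apply, hU]
    exact Ideal.Quotient.eq_zero_iff_mem.2 (Ideal.mem_map_of_mem _ (hq i))
  obtain ⟨k, r, φ, ψ, hφ, hψ⟩ := hk.exists_factor qb (mkQ ∘ₗ U) hq0
  choose w hw using fun l : Fin r => Ideal.Quotient.mkₐ_surjective (R ⧸ I) Q (ψ (Finsupp.single l 1))
  let W : (Fin r →₀ R ⧸ I) →ₗ[R ⧸ I] MvPolynomial (Fin n) (R ⧸ I) :=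
    Finsupp.linearCombination _ w
  have hW : mkQ ∘ₗ W = ψ := by
    ext l
    simp [W, mkQ, ← hw l]
  let Θ := Ideal.Quotient.mk I a ^ k • U - W ∘ₗ φ
  have hΘ : ∀ μ : S, Θ (Finsupp.single μ 1) ∈ Q := fun μ => by
    refine Ideal.Quotient.eq_zero_iff_mem.1 ?_
    change mkQ (Θ _) = 0
    rw [← LinearMap.comp_apply mkQ Θ, LinearMap.comp_sub, LinearMap.comp_smul,
      ← LinearMap.comp_assoc, hW, hψ, sub_self, LinearMap.zero_apply]
  choose θ hθ hθπ using fun μ : S => (Ideal.mem_map_iff_of_surjective π hπ).1 (hΘ μ)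
  refine ⟨k, S, fun μ => if h : μ ∈ S then θ ⟨μ, h⟩ else 0, fun μ => ?_, fun i => ?_⟩
  · beta_reduce
    split_ifs with h
    · exact hθ _
    · exact N.zero_mem
  rw [← Finset.sum_coe_sort S]
  simp only [Finset.coe_mem, dite_true, Subtype.coe_eta]
  refine ⟨sub_mem (Ideal.mul_mem_left _ _ (hq i))
    (sum_mem fun μ _ => Ideal.mul_mem_left _ _ (hθ μ)), ?_⟩
  have h0 : π (C (a ^ k) * q i - ∑ μ : S, C (coeff μ.1 (q i)) * θ μ) = 0 := by
    have e : Θ (qb i) = ∑ μ : S, qb i μ • Θ (Finsupp.single μ 1) := by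
      conv_lhs => rw [← Finsupp.univ_sum_single (qb i), map_sum]
      refine Finset.sum_congr rfl fun μ _ => ?_
      rw [← map_smul, Finsupp.smul_single', mul_one]
    have e' : Θ (qb i) = Ideal.Quotient.mk I a ^ k • π (q i) := by
      simp [Θ, hU, hφ]
    simp only [map_sub, map_mul, map_sum, hθπ]
    rw [sub_eq_zero]
    simp only [π, map_C, map_pow, ← smul_eq_C_mul]
    rw [← map_pow, ← smul_eq_C_mul, ← e', e]
    rfl
  refine mem_map_C_iff.2 fun μ => Ideal.Quotient.eq_zero_iff_mem.1 ?_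
  rw [← coeff_map]
  exact (congrArg (coeff μ) h0).trans (coeff_zero _)

/-- Flatness away from `a` from `exists_generic_correction`. -/
theorem away_of_correction {R₀ : Type u} [CommRing R₀] (ι : R₀ →+* R) {I : Ideal R₀} {a : R₀}
    {N₀ : Ideal (MvPolynomial (Fin n) R₀)} {N : Ideal (MvPolynomial (Fin n) R)}
    (ha : ∀ {m : ℕ} (q : Fin m → MvPolynomial (Fin n) R₀), (∀ i, q i ∈ N₀) →
      ∃ (k : ℕ) (S : Finset (Fin n →₀ ℕ)) (θ : (Fin n →₀ ℕ) → MvPolynomial (Fin n) R₀),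
        (∀ μ, θ μ ∈ N₀) ∧
          ∀ i, C (a ^ k) * q i - ∑ μ ∈ S, C (coeff μ (q i)) * θ μ ∈ N₀ ⊓ I.map C)
    (hle : ∀ y ∈ N₀, MvPolynomial.map ι y ∈ N)
    (hspan : ∀ x ∈ N, x ∈ Submodule.span R
      (MvPolynomial.map ι '' (N₀ : Set (MvPolynomial (Fin n) R₀))))
    (K : Ideal R) (hJ : ∀ y ∈ N₀ ⊓ I.map C, MvPolynomial.map ι y ∈ K.map C * N)
    (x : MvPolynomial (Fin n) R) (hx : x ∈ N ⊓ K.map C) :
    ∃ k : ℕ, C (ι a ^ k) * x ∈ K.map C * N := by
  obtain ⟨m, c, g, hsum⟩ := (Submodule.mem_span_set'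
    (s := MvPolynomial.map ι '' (N₀ : Set (MvPolynomial (Fin n) R₀)))).1 (hspan x hx.1)
  choose q hq hqg using fun i => (g i).2
  obtain ⟨k, S, θ, hθ, hd⟩ := ha q hq
  refine ⟨k, ?_⟩
  have hx' : x = ∑ i, c i • MvPolynomial.map ι (q i) := by simp only [hqg]; exact hsum.symm
  have key : C (ι a ^ k) * x =
      ∑ i, C (c i) * MvPolynomial.map ι (C (a ^ k) * q i - ∑ μ ∈ S, C (coeff μ (q i)) * θ μ) +
      ∑ μ ∈ S, C (coeff μ x) * MvPolynomial.map ι (θ μ) := by
    have h1 : ∀ μ, coeff μ x = ∑ i, c i * ι (coeff μ (q i)) := fun μ => by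
      rw [hx', coeff_sum]
      refine Finset.sum_congr rfl fun i _ => ?_
      rw [coeff_smul, coeff_map, smul_eq_mul]
    simp only [map_sub, map_mul, map_sum, map_C, mul_sub, Finset.mul_sum, Finset.sum_sub_distrib,
      h1, Finset.sum_mul, mul_assoc]
    rw [Finset.sum_comm (s := S), sub_add_cancel]
    conv_lhs => rw [hx', Finset.mul_sum]
    refine Finset.sum_congr rfl fun i _ => ?_
    simp only [smul_eq_C_mul, map_pow]
    ring
  rw [key]
  exact add_mem (sum_mem fun i _ => Ideal.mul_mem_left _ _ (hJ _ (hd i)))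
    (sum_mem fun μ _ => Ideal.mul_mem_mul (Ideal.mem_map_of_mem _ (mem_map_C_iff.1 hx.2 μ))
      (hle _ (hθ μ)))

end Groth.Agent.H13Flat
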