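import Groth.Agent.H13Flat.Criterion
import Mathlib.RingTheory.Polynomial.Basic
import Mathlib.RingTheory.Adjoin.FG
import Mathlib.RingTheory.Filtration
import Mathlib.RingTheory.FiniteType

/-!
Descent of flatness to a stage of finite type over `ℤ`, for an ideal of a polynomial ring:
if `A[x]/(G)` is flat over `A`, then so is `R[x]/(G)` over `R` for every large enough
finitely generated subring `R` of `A`.
-/

universe u

open MvPolynomial

namespace Groth.Agent.H13Flat

variable {A : Type u} [CommRing A] {n : ℕ}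

/-- The inclusion of polynomial rings of a subring. -/
noncomputable abbrev incl (R : Subalgebra ℤ A) :
    MvPolynomial (Fin n) R →+* MvPolynomial (Fin n) A :=
  MvPolynomial.map R.val.toRingHom

/-- The transition map between two stages. -/
noncomputable abbrev trans {R R' : Subalgebra ℤ A} (h : R ≤ R') :
    MvPolynomial (Fin n) R →+* MvPolynomial (Fin n) R' :=
  MvPolynomial.map (Subalgebra.inclusion h).toRingHom

theorem incl_injective (R : Subalgebra ℤ A) : Function.Injective (incl (n := n) R) :=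
  MvPolynomial.map_injective _ Subtype.val_injective

@[simp]
theorem incl_trans {R R' : Subalgebra ℤ A} (h : R ≤ R') (p : MvPolynomial (Fin n) R) :
    incl R' (trans h p) = incl R p := by
  rw [incl, trans, MvPolynomial.map_map]
  rfl

theorem trans_trans {R R' R'' : Subalgebra ℤ A} (h : R ≤ R') (h' : R' ≤ R'')
    (p : MvPolynomial (Fin n) R) : trans h' (trans h p) = trans (h.trans h') p :=
  incl_injective R'' (by simp)

theorem isNoetherianRing_stage {R : Subalgebra ℤ A} (hR : R.FG) : IsNoetherianRing R := by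
  have : Algebra.FiniteType ℤ R := R.fg_iff_finiteType.1 hR
  exact Algebra.FiniteType.isNoetherianRing ℤ R

variable (G : Set (MvPolynomial (Fin n) A))

/-- The ideal generated by `G` at a stage. -/
noncomputable def stageIdeal (R : Subalgebra ℤ A) : Ideal (MvPolynomial (Fin n) R) :=
  Ideal.span (incl R ⁻¹' G)

variable {G}

theorem map_stageIdeal_le {R R' : Subalgebra ℤ A} (h : R ≤ R') :
    (stageIdeal G R).map (trans h) ≤ stageIdeal G R' := by
  rw [stageIdeal, Ideal.map_span]
  refine Ideal.span_mono ?_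
  rintro _ ⟨p, hp, rfl⟩
  simpa using hp

theorem trans_mem_stageIdeal {R R' : Subalgebra ℤ A} (h : R ≤ R') {p : MvPolynomial (Fin n) R}
    (hp : p ∈ stageIdeal G R) : trans h p ∈ stageIdeal G R' :=
  map_stageIdeal_le h (Ideal.mem_map_of_mem _ hp)

/-- A relation holding over `A` already holds at a finitely generated stage. -/
theorem exists_stage_mem_span {R₀ : Subalgebra ℤ A} (h0 : R₀.FG)
    (s : Set (MvPolynomial (Fin n) R₀)) (x : MvPolynomial (Fin n) R₀)
    (hx : incl R₀ x ∈ Ideal.span (incl R₀ '' s)) :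
    ∃ (R : Subalgebra ℤ A) (h : R₀ ≤ R), R.FG ∧ trans h x ∈ Ideal.span (trans h '' s) := by
  classical
  obtain ⟨m, c, g, hsum⟩ := (Submodule.mem_span_set' (s := incl R₀ '' s)).1 hx
  choose p hp hpg using fun i => (g i).2
  let T : Finset A := Finset.univ.biUnion fun i => (c i).coeffs
  let R := R₀ ⊔ Algebra.adjoin ℤ (T : Set A)
  have hc : ∀ i, ∃ c' : MvPolynomial (Fin n) R, incl R c' = c i := by
    intro i
    refine MvPolynomial.mem_range_map_iff_coeffs_subset.2 fun a ha => ?_
    exact ⟨⟨a, (le_sup_right : _ ≤ R) (Algebra.subset_adjoin (Finset.mem_coe.2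
      (Finset.mem_biUnion.2 ⟨i, Finset.mem_univ i, ha⟩)))⟩, rfl⟩
  choose c' hc' using hc
  refine ⟨R, le_sup_left, h0.sup (Subalgebra.fg_adjoin_finset T), ?_⟩
  have e : trans (le_sup_left : R₀ ≤ R) x = ∑ i, c' i * trans le_sup_left (p i) := by
    apply incl_injective R
    simp only [incl_trans, map_sum, map_mul, hc', hpg]
    exact hsum.symm
  rw [e]
  exact sum_mem fun i _ => Ideal.mul_mem_left _ _ (Ideal.subset_span ⟨p i, hp i, rfl⟩)

theorem exists_stage_mem_span_forall {R₀ : Subalgebra ℤ A} (h0 : R₀.FG)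
    (s : Set (MvPolynomial (Fin n) R₀)) (X : Finset (MvPolynomial (Fin n) R₀))
    (hX : ∀ x ∈ X, incl R₀ x ∈ Ideal.span (incl R₀ '' s)) :
    ∃ (R : Subalgebra ℤ A) (h : R₀ ≤ R), R.FG ∧ ∀ (R' : Subalgebra ℤ A) (h' : R ≤ R'), ∀ x ∈ X,
      trans (h.trans h') x ∈ Ideal.span (trans (h.trans h') '' s) := by
  classical
  induction X using Finset.induction_on with
  | empty => exact ⟨R₀, le_rfl, h0, by simp⟩
  | insert a X ha ih =>
    obtain ⟨R, h, hR, hall⟩ := ih fun x hx => hX x (Finset.mem_insert_of_mem hx)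
    obtain ⟨Ra, hha, hRa, hmem⟩ := exists_stage_mem_span h0 s a (hX a (Finset.mem_insert_self a X))
    refine ⟨R ⊔ Ra, h.trans le_sup_left, hR.sup hRa, fun R' h' x hx => ?_⟩
    rcases Finset.mem_insert.1 hx with rfl | hx
    · have h3 : Ra ≤ R' := le_sup_right.trans h'
      have := Ideal.mem_map_of_mem (trans h3) hmem
      rw [Ideal.map_span, ← Set.image_comp, trans_trans] at this
      have e : ⇑(trans h3) ∘ ⇑(trans (n := n) hha) =
          ⇑(trans ((h.trans le_sup_left).trans h')) :=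
        funext fun p => trans_trans hha h3 p
      rwa [e] at this
    · exact hall R' (le_sup_left.trans h') x hx

theorem mem_span_trans_image {R₀ R : Subalgebra ℤ A} (h : R₀ ≤ R) (hG : G ⊆ Set.range (incl R₀))
    {x : MvPolynomial (Fin n) R} (hx : x ∈ stageIdeal G R) :
    x ∈ Submodule.span R (trans h '' (stageIdeal G R₀ : Set (MvPolynomial (Fin n) R₀))) := by
  have hsmul : ∀ (p : MvPolynomial (Fin n) R) (y : MvPolynomial (Fin n) R),
      y ∈ Submodule.span R (trans h '' (stageIdeal G R₀ : Set (MvPolynomial (Fin n) R₀))) →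
      p * y ∈ Submodule.span R (trans h '' (stageIdeal G R₀ : Set (MvPolynomial (Fin n) R₀))) := by
    intro p y hy
    induction hy using Submodule.span_induction with
    | mem z hz =>
      obtain ⟨q, hq, rfl⟩ := hz
      induction p using MvPolynomial.induction_on' with
      | add a b ha hb => rw [add_mul]; exact add_mem ha hb
      | monomial μ c =>
        have : monomial μ c * trans h q = c • trans h (monomial μ 1 * q) := by
          rw [map_mul, MvPolynomial.map_monomial, map_one, ← smul_mul_assoc,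
            MvPolynomial.smul_monomial, smul_eq_mul, mul_one]
        rw [this]
        exact Submodule.smul_mem _ _ (Submodule.subset_span ⟨_, Ideal.mul_mem_left _ _ hq, rfl⟩)
    | zero => simp
    | add a b _ _ ha hb => rw [mul_add]; exact add_mem ha hb
    | smul c a _ ha => rw [mul_smul_comm]; exact Submodule.smul_mem _ _ ha
  induction hx using Submodule.span_induction with
  | mem z hz =>
    obtain ⟨q, hq⟩ := hG hz
    refine Submodule.subset_span ⟨q, Ideal.subset_span (by rw [Set.mem_preimage, hq]; exact hz), ?_⟩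
    exact incl_injective R (by simpa using hq)
  | zero => simp
  | add a b _ _ ha hb => exact add_mem ha hb
  | smul c a _ ha => exact hsmul c a ha

/-- The conclusion after inverting an element not in `I`. -/
def AwayAt {R₀ : Subalgebra ℤ A} (G : Set (MvPolynomial (Fin n) A)) (I : Ideal R₀) (a : R₀) : Prop :=
  ∃ (R₁ : Subalgebra ℤ A) (h₁ : R₀ ≤ R₁), R₁.FG ∧ ∀ (R : Subalgebra ℤ A) (h : R₁ ≤ R), R.FG →
    ∀ K : Ideal R, I.map (Subalgebra.inclusion (h₁.trans h)).toRingHom ≤ K →
      ∀ x ∈ stageIdeal G R ⊓ K.map C, ∃ k : ℕ,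
        C (Subalgebra.inclusion (h₁.trans h) a ^ k) * x ∈ K.map C * stageIdeal G R

/-- Flatness relative to `I`, at all large stages. -/
def GoodAt {R₀ : Subalgebra ℤ A} (G : Set (MvPolynomial (Fin n) A)) (I : Ideal R₀) : Prop :=
  ∃ (R₁ : Subalgebra ℤ A) (h₁ : R₀ ≤ R₁), R₁.FG ∧ ∀ (R : Subalgebra ℤ A) (h : R₁ ≤ R), R.FG →
    ∀ K : Ideal R, I.map (Subalgebra.inclusion (h₁.trans h)).toRingHom ≤ K →
      stageIdeal G R ⊓ K.map C ≤ K.map C * stageIdeal G R

theorem awayAt_of_isPrime {R₀ : Subalgebra ℤ A} (h0 : R₀.FG) (hG : G ⊆ Set.range (incl R₀))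
    (hflat : ∀ K : Ideal A, Ideal.span G ⊓ K.map C ≤ K.map C * Ideal.span G)
    (I : Ideal R₀) [I.IsPrime] : ∃ a : R₀, a ∉ I ∧ AwayAt G I a := by
  have := isNoetherianRing_stage h0
  obtain ⟨a, haI, ha⟩ := exists_generic_correction I (stageIdeal G R₀)
  refine ⟨a, haI, ?_⟩
  obtain ⟨Y, hY⟩ := IsNoetherian.noetherian (stageIdeal G R₀ ⊓ I.map C)
  let s : Set (MvPolynomial (Fin n) R₀) :=
    Set.image2 (· * ·) (C '' (I : Set R₀)) (incl R₀ ⁻¹' G)
  have hs : Ideal.span (incl R₀ '' s) =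
      (I.map R₀.val.toRingHom).map C * Ideal.span G := by
    rw [Set.image_image2, Ideal.map_map, Ideal.map, Ideal.span_mul_span']
    congr 1
    ext z
    simp only [Set.mem_image2, Set.mem_mul, Set.mem_image, map_mul, SetLike.mem_coe]
    constructor
    · rintro ⟨_, ⟨c, hc, rfl⟩, g, hg, rfl⟩
      exact ⟨_, ⟨c, hc, rfl⟩, _, hg, by simp⟩
    · rintro ⟨_, ⟨c, hc, rfl⟩, g, hg, rfl⟩
      obtain ⟨g', rfl⟩ := hG hg
      exact ⟨_, ⟨c, hc, rfl⟩, g', hg, by simp⟩
  obtain ⟨R₁, h₁, hR₁, hall⟩ := exists_stage_mem_span_forall h0 s Y fun y hy => by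
    rw [hs]
    have hy' : y ∈ stageIdeal G R₀ ⊓ I.map C := hY ▸ Submodule.subset_span hy
    refine hflat _ ⟨?_, ?_⟩
    · have : (stageIdeal G R₀).map (incl R₀) ≤ Ideal.span G := by
        rw [stageIdeal, Ideal.map_span]
        exact Ideal.span_mono (Set.image_preimage_subset _ _)
      exact this (Ideal.mem_map_of_mem _ hy'.1)
    · refine mem_map_C_iff.2 fun μ => ?_
      rw [coeff_map]
      exact Ideal.mem_map_of_mem _ (mem_map_C_iff.1 hy'.2 μ)
  refine ⟨R₁, h₁, hR₁, fun R h hR K hK x hx => ?_⟩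
  refine away_of_correction (Subalgebra.inclusion (h₁.trans h)).toRingHom ha
    (fun y hy => trans_mem_stageIdeal _ hy) (fun x hx => mem_span_trans_image _ hG hx) K ?_ x hx
  intro y hy
  rw [← hY] at hy
  induction hy using Submodule.span_induction with
  | mem z hz =>
    refine (Ideal.span_le.2 ?_) (hall R h z hz)
    rintro _ ⟨_, ⟨_, ⟨c, hc, rfl⟩, g, hg, rfl⟩, rfl⟩
    rw [map_mul]
    refine Ideal.mul_mem_mul ?_ (trans_mem_stageIdeal _ (Ideal.subset_span hg))
    rw [trans, map_C]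
    exact Ideal.mem_map_of_mem _ (hK (Ideal.mem_map_of_mem _ hc))
  | zero => simp
  | add a b _ _ ha hb => rw [map_add]; exact add_mem ha hb
  | smul c a _ ha => rw [smul_eq_mul, map_mul]; exact Ideal.mul_mem_left _ _ ha

theorem goodAt_of_gt {R₀ : Subalgebra ℤ A} {I : Ideal R₀} (a : R₀)
    (hgood : GoodAt G (I ⊔ Ideal.span {a})) (haway : AwayAt G I a) : GoodAt G I := by
  obtain ⟨R₁, h₁, hR₁, H₁⟩ := hgood
  obtain ⟨R₂, h₂, hR₂, H₂⟩ := haway
  refine ⟨R₁ ⊔ R₂, h₁.trans le_sup_left, hR₁.sup hR₂, fun R h hR => ?_⟩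
  have := isNoetherianRing_stage hR
  refine inf_le_mul_of_away (stageIdeal G R) _
    (Subalgebra.inclusion ((h₁.trans le_sup_left).trans h) a) (fun K hK => ?_)
    fun K hK x hx => H₂ R (le_sup_right.trans h) hR K hK x hx
  refine H₁ R (le_sup_left.trans h) hR K (le_trans ?_ hK)
  rw [Ideal.map_sup, Ideal.map_span, Set.image_singleton]
  rfl

theorem awayAt_of_mul_mem {R₀ : Subalgebra ℤ A} {I : Ideal R₀} {a b : R₀} (hab : a * b ∈ I)
    (hgood : GoodAt G (I ⊔ Ideal.span {b})) : AwayAt G I a := by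
  obtain ⟨R₁, h₁, hR₁, H₁⟩ := hgood
  refine ⟨R₁, h₁, hR₁, fun R h hR K hK x hx => ⟨1, ?_⟩⟩
  rw [pow_one]
  refine away_of_mul_mem (stageIdeal G R) _ _ (Subalgebra.inclusion (h₁.trans h) b) ?_
    (fun K' hK' => H₁ R h hR K' (le_trans ?_ hK')) K hK x hx
  · rw [← map_mul]
    exact Ideal.mem_map_of_mem (Subalgebra.inclusion (h₁.trans h)).toRingHom hab
  · rw [Ideal.map_sup, Ideal.map_span, Set.image_singleton]
    rfl

theorem goodAt {R₀ : Subalgebra ℤ A} (h0 : R₀.FG) (hG : G ⊆ Set.range (incl R₀))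
    (hflat : ∀ K : Ideal A, Ideal.span G ⊓ K.map C ≤ K.map C * Ideal.span G)
    (I : Ideal R₀) : GoodAt G I := by
  have := isNoetherianRing_stage h0
  induction I using IsNoetherian.induction with
  | hgt I ih =>
    by_cases htop : I = ⊤
    · refine ⟨R₀, le_rfl, h0, fun R h hR K hK => ?_⟩
      rw [htop, Ideal.map_top, top_le_iff] at hK
      rw [hK, Ideal.map_top, Ideal.top_mul]
      exact inf_le_left
    by_cases hp : Ideal.IsPrime I
    · obtain ⟨a, ha, haway⟩ := awayAt_of_isPrime h0 hG hflat I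
      exact goodAt_of_gt a (ih _ (Submodule.lt_sup_iff_notMem.2 ha)) haway
    · obtain ⟨a, b, hab, ha, hb⟩ : ∃ a b, a * b ∈ I ∧ a ∉ I ∧ b ∉ I := by
        by_contra hne
        push Not at hne
        exact hp ⟨htop, fun {a b} hab => or_iff_not_imp_left.2 fun ha => hne a b hab ha⟩
      exact goodAt_of_gt a (ih _ (Submodule.lt_sup_iff_notMem.2 ha))
        (awayAt_of_mul_mem hab (ih _ (Submodule.lt_sup_iff_notMem.2 hb)))

/-- Descent of flatness to a finitely generated stage, ideal-theoretic form. -/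
theorem exists_stage_inf_le {R₀ : Subalgebra ℤ A} (h0 : R₀.FG) (hG : G ⊆ Set.range (incl R₀))
    (hflat : ∀ K : Ideal A, Ideal.span G ⊓ K.map C ≤ K.map C * Ideal.span G) :
    ∃ R₁ : Subalgebra ℤ A, R₀ ≤ R₁ ∧ R₁.FG ∧ ∀ R : Subalgebra ℤ A, R₁ ≤ R → R.FG →
      ∀ K : Ideal R, stageIdeal G R ⊓ K.map C ≤ K.map C * stageIdeal G R := by
  obtain ⟨R₁, h₁, hR₁, H⟩ := goodAt h0 hG hflat (⊥ : Ideal R₀)
  exact ⟨R₁, h₁, hR₁, fun R h hR K => H R h hR K (by rw [Ideal.map_bot]; exact bot_le)⟩

end Groth.Agent.H13Flat
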